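import Groth.Agent.H56.ProjPC.Bound
import Groth.Agent.Lib.GenBdd.Basic
import Groth.Agent.Lib.DerivedOX.AffinePush
import Groth.Agent.Lib.DerivedOX.RpushQCoh
import Groth.Agent.Lib.SchColim29.CohPush
import Groth.Agent.Lib.SchColim29.QCohModel
import Groth.Agent.Lib.RHomO.Main
import Groth.Agent.Lib.Cyc.Dev.SchemeEquiv

/-!
# Boundedness and coherence are reflected by `i_*`
-/

set_option autoImplicit false
set_option linter.style.haveILetI false
set_option linter.unusedSectionVars false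

universe u

open CategoryTheory CategoryTheory.Limits CategoryTheory.Pretriangulated AlgebraicGeometry

attribute [local instance] HasDerivedCategory.standard

namespace Groth.Agent.H83.ExtFinite.AffineBd

open Groth.Agent.Lib Groth.Agent.Lib.DerivedOX

variable {X S : Scheme.{u}} (f : X ⟶ S) [IsAffineHom f] [DCoh.HasRpush f]

theorem isLE_Rpush (K : DCoh.D X) (hK : DCoh.IsQCohD K) (b : ℤ) [K.IsLE b] :
    ((DCoh.Rpush f).obj K).IsLE b := by
  refine (DerivedCategory.isLE_iff _ _).2 fun i hi =>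
    Modules.Support.support_eq_empty_iff.1 (Set.eq_empty_of_forall_notMem fun s => ?_)
  obtain ⟨V, hV, hsV, -⟩ := exists_isAffineOpen_mem_and_subset (X := S) (x := s) (U := ⊤) trivial
  haveI : IsAffine (V : Scheme.{u}) := hV
  haveI : IsAffine ((f ⁻¹ᵁ V : X.Opens) : Scheme.{u}) := hV.preimage f
  haveI := Exists.hasRpush (f ∣_ V)
  let U : Fin (0 + 1) → ((f ⁻¹ᵁ V : X.Opens) : Scheme.{u}).Opens := fun _ => ⊤
  let K' := (Perfect.Basic.RD (f ⁻¹ᵁ V).ι).obj K
  haveI : K'.IsLE b := (DerivedCategory.isLE_iff _ _).2 fun j hj =>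
    (Functor.map_isZero _ (DerivedCategory.isZero_of_isLE K b j hj)).of_iso
      (Perfect.Coherent.homologyIso (f ⁻¹ᵁ V).ι K j)
  haveI := H56.ProjPC.isLE_Rpush_of_cover (f ∣_ V) U (fun _ => isAffineOpen_top _)
    (eq_top_iff.2 (le_iSup U 0)) K' b (RpushQCoh.isQCohD_restrict hK _)
  haveI : ((DCoh.Rpush (f ∣_ V)).obj K').IsLE b := by simpa using this
  have h := (DerivedCategory.isZero_of_isLE ((DCoh.Rpush (f ∣_ V)).obj K') b i hi).of_iso
    ((DerivedCategory.homologyFunctor _ i).mapIso ((RestrictRpush.restrictD_Rpush_iso f V).app K))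
  exact (GenBdd.isZero_restrict_iff V.ι _ i).1 h s ⟨⟨s, hsV⟩, rfl⟩

theorem isZero_obj₁ {C : Type*} [Category C] [Abelian C] [HasDerivedCategory C] (T : Triangle (DerivedCategory C))
    (hT : T ∈ distTriang _) (c : ℤ) [T.obj₁.IsLE (c - 1)] (h₂ : T.obj₂.IsGE c) (h₃ : T.obj₃.IsGE c) :
    IsZero T.obj₁ := by
  haveI := h₃
  haveI : (T.obj₃⟦(-1 : ℤ)⟧).IsGE c := by
    haveI := DerivedCategory.TStructure.t.isGE_shift T.obj₃ c (-1) (c + 1) (by omega)
    exact DerivedCategory.TStructure.t.isGE_of_ge _ c (c + 1) (by omega)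
  haveI : T.obj₁.IsGE c :=
    DerivedCategory.TStructure.t.isGE₂ T.invRotate (inv_rot_of_distTriang _ hT) c ‹_› h₂
  exact (IsZero.iff_id_eq_zero _).2 (DerivedCategory.TStructure.t.zero (𝟙 T.obj₁) (c - 1) c (by omega))

theorem isZero_obj₃ {C : Type*} [Category C] [Abelian C] [HasDerivedCategory C] (T : Triangle (DerivedCategory C))
    (hT : T ∈ distTriang _) (c : ℤ) [T.obj₃.IsGE (c + 1)] (h₂ : T.obj₂.IsLE c) (h₁ : T.obj₁.IsLE c) :
    IsZero T.obj₃ := by
  haveI := h₁
  haveI : (T.obj₁⟦(1 : ℤ)⟧).IsLE c := by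
    haveI := DerivedCategory.TStructure.t.isLE_shift T.obj₁ c 1 (c - 1) (by omega)
    exact DerivedCategory.TStructure.t.isLE_of_le _ (c - 1) c (by omega)
  haveI : T.obj₃.IsLE c :=
    DerivedCategory.TStructure.t.isLE₂ T.rotate (rot_of_distTriang _ hT) c h₂ ‹_›
  exact (IsZero.iff_id_eq_zero _).2 (DerivedCategory.TStructure.t.zero (𝟙 T.obj₃) c (c + 1) (by omega))

theorem isGE_of_Rpush [IsLocallyNoetherian S] [LocallyOfFiniteType f] (K : DCoh.D X) (hK : DCoh.IsQCohD K) (a : ℤ)
    [h : ((DCoh.Rpush f).obj K).IsGE a] : K.IsGE a := by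
  let T := (DerivedCategory.TStructure.t.triangleLTGE a).obj K
  have hT : T ∈ distTriang _ := DerivedCategory.TStructure.t.triangleLTGE_distinguished a K
  haveI : T.obj₁.IsLE (a - 1) :=
    inferInstanceAs (DerivedCategory.TStructure.t.IsLE ((DerivedCategory.TStructure.t.truncLT a).obj K) (a - 1))
  haveI : T.obj₃.IsGE a :=
    inferInstanceAs (DerivedCategory.TStructure.t.IsGE ((DerivedCategory.TStructure.t.truncGE a).obj K) a)
  have hq₁ : DCoh.IsQCohD T.obj₁ := WayOut.Bounded.hasP_truncLT (P := WayOut.Scheme.qc X) hK a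
  have hz : IsZero ((DCoh.Rpush f).obj T.obj₁) :=
    @isZero_obj₁ _ _ _ _ ((DCoh.Rpush f).mapTriangle.obj T) ((DCoh.Rpush f).map_distinguished _ hT) a
      (isLE_Rpush f T.obj₁ hq₁ (a - 1)) h (SchColim29.CohPush.Rpush_isGE f T.obj₃ a)
  have hz₁ : IsZero T.obj₁ := OpenSupport.isZero_of_homology _ (AffinePush.isZero_of_Rpush f _ hq₁ hz)
  haveI : IsIso T.mor₂ := (Triangle.isZero₁_iff_isIso₂ T hT).1 hz₁
  exact DerivedCategory.TStructure.t.isGE_of_iso (asIso T.mor₂).symm a

theorem isLE_of_Rpush [IsLocallyNoetherian S] [LocallyOfFiniteType f] (K : DCoh.D X) (hK : DCoh.IsQCohD K) (b : ℤ)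
    [h : ((DCoh.Rpush f).obj K).IsLE b] : K.IsLE b := by
  let T := (DerivedCategory.TStructure.t.triangleLTGE (b + 1)).obj K
  have hT : T ∈ distTriang _ := DerivedCategory.TStructure.t.triangleLTGE_distinguished (b + 1) K
  haveI : T.obj₁.IsLE b := by
    have : T.obj₁.IsLE (b + 1 - 1) :=
      inferInstanceAs (DerivedCategory.TStructure.t.IsLE ((DerivedCategory.TStructure.t.truncLT (b + 1)).obj K) (b + 1 - 1))
    simpa using this
  haveI : T.obj₃.IsGE (b + 1) :=
    inferInstanceAs (DerivedCategory.TStructure.t.IsGE ((DerivedCategory.TStructure.t.truncGE (b + 1)).obj K) (b + 1))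
  have hq₃ : DCoh.IsQCohD T.obj₃ := WayOut.Bounded.hasP_truncGE (P := WayOut.Scheme.qc X) hK (b + 1)
  have hq₁ : DCoh.IsQCohD T.obj₁ := WayOut.Bounded.hasP_truncLT (P := WayOut.Scheme.qc X) hK (b + 1)
  have hz : IsZero ((DCoh.Rpush f).obj T.obj₃) :=
    @isZero_obj₃ _ _ _ _ ((DCoh.Rpush f).mapTriangle.obj T) ((DCoh.Rpush f).map_distinguished _ hT) b
      (SchColim29.CohPush.Rpush_isGE f T.obj₃ (b + 1)) h (isLE_Rpush f T.obj₁ hq₁ b)
  have hz₃ : IsZero T.obj₃ := OpenSupport.isZero_of_homology _ (AffinePush.isZero_of_Rpush f _ hq₃ hz)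
  haveI : IsIso T.mor₁ := (Triangle.isZero₃_iff_isIso₁ T hT).1 hz₃
  exact DerivedCategory.TStructure.t.isLE_of_iso (asIso T.mor₁) b

/-- A closed immersion reflects bounded coherence. -/
theorem cohb_of_Rpush {X S : Scheme.{u}} (i : X ⟶ S) [IsClosedImmersion i] [IsNoetherian S]
    [DCoh.HasRpush i] (K : DCoh.D X) (hK : DCoh.IsQCohD K) (hP : DCoh.IsCohD ((DCoh.Rpush i).obj K))
    (a b : ℤ) [((DCoh.Rpush i).obj K).IsGE a] [((DCoh.Rpush i).obj K).IsLE b] :
    DCoh.IsCohD K ∧ ∃ a b : ℤ, K.IsGE a ∧ K.IsLE b := by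
  haveI := isGE_of_Rpush i K hK a
  haveI := isLE_of_Rpush i K hK b
  haveI : IsLocallyNoetherian X := LocallyOfFiniteType.isLocallyNoetherian i
  haveI : CompactSpace X := QuasiCompact.compactSpace_of_compactSpace i
  haveI : IsNoetherian X := {}
  refine ⟨fun l => ?_, a, b, inferInstance, inferInstance⟩
  obtain ⟨F, _, _, hF, ⟨e⟩⟩ := SchColim29.QCohModel.exists_bounded_model K hK a b
  haveI : PreservesFiniteColimits (Scheme.Modules.pushforward i) := RHomO.Main.preservesFiniteColimits_push i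
  haveI : PreservesFiniteLimits (Scheme.Modules.pushforward i) :=
    haveI := (Scheme.Modules.pullbackPushforwardAdjunction i).rightAdjoint_preservesLimits
    inferInstance
  haveI := AffinePush.isIso_unit i F hF
  let η := (DCoh.pushKh i).totalRightDerivedUnit DerivedCategory.Qh
    (HomotopyCategory.quasiIso X.Modules (ComplexShape.up ℤ))
  let PF := ((Scheme.Modules.pushforward i).mapHomologicalComplex (ComplexShape.up ℤ)).obj F
  let u : DerivedCategory.Q.obj PF ≅ (DCoh.Rpush i).obj K :=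
    ((DerivedCategory.quotientCompQhIso S.Modules).app PF).symm ≪≫
      DerivedCategory.Qh.mapIso (((Scheme.Modules.pushforward i).mapHomotopyCategoryFactors
        (ComplexShape.up ℤ)).app F).symm ≪≫
      asIso (η.app ((HomotopyCategory.quotient X.Modules (ComplexShape.up ℤ)).obj F)) ≪≫
      (DCoh.Rpush i).mapIso ((DerivedCategory.quotientCompQhIso X.Modules).app F ≪≫ e)
  have h1 : Coh.IsCoh ((Scheme.Modules.pushforward i).obj (F.homology l)) :=
    CohBasics.Closure.isCoh_of_iso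
      ((DerivedCategory.homologyFunctor _ l).mapIso u.symm ≪≫
        (DerivedCategory.homologyFunctorFactors S.Modules l).app PF ≪≫
        (F.sc l).mapHomologyIso (Scheme.Modules.pushforward i)) (hP l)
  have hq : (F.homology l).IsQuasicoherent :=
    @CohBasics.Closure.isQCoh_of_iso _ _ _
      ((DerivedCategory.homologyFunctor _ l).mapIso e.symm ≪≫
        (DerivedCategory.homologyFunctorFactors X.Modules l).app F) (hK l)
  exact CohBasics.Closure.isCoh_of_iso
    (((DerivedCategory.homologyFunctorFactors X.Modules l).app F).symm ≪≫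
      (DerivedCategory.homologyFunctor _ l).mapIso e)
    (Cyc.Dev.SchemeEquiv.isCoh_of_push i hq h1)

end Groth.Agent.H83.ExtFinite.AffineBd
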