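import Groth.Agent.H83.ExtFinite.Linear
import Groth.Agent.H83.ProjPCCrit.Base
import Groth.Agent.Lib.Exchange.Linear
import Groth.Agent.Lib.DerivedOX.DualBidual
import Groth.Agent.Lib.DerivedOX.DualFree
import Groth.Agent.Lib.DerivedOX.TensorCoprod
import Groth.Agent.Lib.BettiExact.LTensorTri
import Groth.Agent.Lib.DerivedOX.DualHomExists
import Groth.Agent.Lib.DerivedOX.RpushCoprod
import Groth.Agent.Lib.DerivedOX.PullPushAdj
import Groth.Agent.Lib.SchColim29.RHomLocal
import Groth.Agent.Lib.SchColim29.CohPush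
import Groth.Agent.Lib.Perfect.TildeFT
import Groth.Prelude.Def_KLin
import Mathlib.Algebra.Homology.DerivedCategory.Linear

/-!
# Finiteness of `Hom` in the derived category of a proper scheme
-/

set_option autoImplicit false
set_option linter.style.haveILetI false
set_option linter.unusedSectionVars false

universe u

open CategoryTheory CategoryTheory.Limits AlgebraicGeometry HomologicalComplex

attribute [local instance] HasDerivedCategory.standard

namespace Groth.Agent.H83.ExtFinite

open Groth.Agent.Lib Groth.Agent.Lib.DerivedOX Groth.Agent.Lib.Gen43.Affine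
open Groth.Agent.Lib.Gen43.Ring (sg)

variable {A : Type u} [CommRing A]

theorem preservesFiniteColimits_tilde (R : CommRingCat.{u}) :
    PreservesFiniteColimits (tilde.functor R) := inferInstance

local instance : PreservesFiniteColimits (tilde.functor (CommRingCat.of A)) :=
  preservesFiniteColimits_tilde _

section Tensor

variable {X : Scheme.{u}} [X.Over (Spec (CommRingCat.of A))]

theorem tensorCx_smul (a : A) (M L : CochainComplex X.Modules ℤ) :
    ((DCoh.tensorCx (X := X)).flip.obj L).map (a • 𝟙 M) =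
      a • 𝟙 (((DCoh.tensorCx (X := X)).flip.obj L).obj M) := by
  refine HomologicalComplex.hom_ext _ _ fun n => ?_
  refine mapBifunctor.hom_ext fun p q h => ?_
  change ιMapBifunctor M L (DCoh.tensorBi (X := X)) (.up ℤ) p q n h ≫
    (mapBifunctorMap (a • 𝟙 M) (𝟙 L) (DCoh.tensorBi (X := X)) (.up ℤ)).f n = _
  rw [ι_mapBifunctorMap, HomologicalComplex.id_f, CategoryTheory.Functor.map_id, Category.id_comp]
  have h1 : (a • 𝟙 M).f p = _root_.Formal.smulMod A (M.X p) a := by
    rw [HomologicalComplex.smul_f_apply, HomologicalComplex.id_f]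
    exact KLin.smul_id _ _
  have h2 : ((DCoh.tensorBi (X := X)).map ((a • 𝟙 M).f p)).app (L.X q) =
      a • 𝟙 (((DCoh.tensorBi (X := X)).obj (M.X p)).obj (L.X q)) := by
    rw [h1, KLin.smul_id]
    exact (PullTensor.tensorBi_map_app _ _).trans (ZarCoh.Exchange.Linear.tmap_smul_id _ _ _)
  rw [h2, Linear.smul_comp, Category.id_comp, HomologicalComplex.smul_f_apply, HomologicalComplex.id_f]
  refine Eq.symm ((Linear.comp_smul _ _ _ _ _ _).trans ?_)
  exact congrArg (a • ·) (Category.comp_id _)

theorem LTensorCx_map_smul (E : CochainComplex X.Modules ℤ) [DCoh.HasLTensorCx E] (a : A) (K : DCoh.D X) :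
    (DCoh.LTensorCx E).map (a • 𝟙 K) = a • 𝟙 _ := by
  refine Linear.left_map_smul DerivedCategory.Q (HomologicalComplex.quasiIso X.Modules (.up ℤ))
    (DCoh.tensorCxQ E) (DCoh.LTensorCx E)
    ((DCoh.tensorCxQ E).totalLeftDerivedCounit DerivedCategory.Q _) a (fun M => ⟨a • 𝟙 M, ?_, ?_⟩) K
  · rw [Functor.map_smul, CategoryTheory.Functor.map_id]
  · change DerivedCategory.Q.map (((DCoh.tensorCx (X := X)).flip.obj E).map (a • 𝟙 M)) = _
    rw [tensorCx_smul, Functor.map_smul, CategoryTheory.Functor.map_id]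
    rfl

/-- `O ⊗ E ≅ E`. -/
noncomputable def oneTensorIso (E : CochainComplex X.Modules ℤ) [DCoh.HasLTensorCx E] :
    (DCoh.LTensorCx E).obj (DerivedCategory.Q.obj (DerSch.unitCx X)) ≅ DCoh.toD X E :=
  haveI := TensorCoprod.isIso_counit_app_of_isKFlat E (DCoh.LTensorCx E)
    ((DCoh.tensorCxQ E).totalLeftDerivedCounit DerivedCategory.Q
      (HomologicalComplex.quasiIso X.Modules (.up ℤ))) (BettiExact.TorProduct.isKFlat_unitCx X)
  asIso (((DCoh.tensorCxQ E).totalLeftDerivedCounit DerivedCategory.Q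
      (HomologicalComplex.quasiIso X.Modules (.up ℤ))).app (DerSch.unitCx X)) ≪≫
    DerivedCategory.Q.mapIso (DualBidual.commCx (DerSch.unitCx X) E ≪≫ (DualFree.unitIso.app E).symm)

end Tensor

section Push

variable {X : Scheme.{u}} [X.Over (Spec (CommRingCat.of A))] {Y : Scheme.{u}} [Y.Over (Spec (CommRingCat.of A))]

theorem Rpush_map_smul (f : X ⟶ Y) [f.IsOver (Spec (CommRingCat.of A))] [DCoh.HasRpush f] (a : A)
    (K : DCoh.D X) : (DCoh.Rpush f).map (a • 𝟙 K) = a • 𝟙 _ := by
  refine Linear.right_map_smul DerivedCategory.Qh (HomotopyCategory.quasiIso X.Modules (.up ℤ))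
    (DCoh.pushKh f) (DCoh.Rpush f)
    ((DCoh.pushKh f).totalRightDerivedUnit DerivedCategory.Qh _) a (fun M => ⟨a • 𝟙 M, ?_, ?_⟩) K
  · rw [Functor.map_smul, CategoryTheory.Functor.map_id]
  · obtain ⟨M, rfl⟩ := (HomotopyCategory.quotient_obj_surjective M)
    rw [← CategoryTheory.Functor.map_id (HomotopyCategory.quotient _ _), ← Functor.map_smul]
    change DerivedCategory.Qh.map ((HomotopyCategory.quotient _ _).map
      (((Scheme.Modules.pushforward f).mapHomologicalComplex _).map (a • 𝟙 M))) = _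
    have h : ((Scheme.Modules.pushforward f).mapHomologicalComplex (.up ℤ)).map (a • 𝟙 M) =
        a • 𝟙 (((Scheme.Modules.pushforward f).mapHomologicalComplex (.up ℤ)).obj M) := by
      refine HomologicalComplex.hom_ext _ _ fun n => ?_
      rw [Functor.mapHomologicalComplex_map_f, HomologicalComplex.smul_f_apply,
        HomologicalComplex.smul_f_apply, HomologicalComplex.id_f, HomologicalComplex.id_f,
        Functor.map_smul, CategoryTheory.Functor.map_id]
      rfl
    rw [h, Functor.map_smul, Functor.map_smul, CategoryTheory.Functor.map_id, CategoryTheory.Functor.map_id]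
    rfl

end Push

section Affine

/-- `Spec A` over itself. -/
@[implicit_reducible]
noncomputable def overSelf (A : Type u) [CommRing A] :
    (S A).Over (Spec (CommRingCat.of A)) := ⟨𝟙 _⟩

theorem tilde_linear : letI := overSelf A
    (tilde.functor (CommRingCat.of A)).Linear A := by
  letI := overSelf A
  refine (Functor.linear_iff A _).2 fun M a => ?_
  rw [KLin.smul_id]
  refine (ZarCoh.Exchange.Linear.tilde_map_smul M a).trans ?_
  refine congrArg (_root_.Formal.smulModΓ _) ?_
  change _ = (Scheme.Hom.appTop (𝟙 (S A))).hom ((Scheme.ΓSpecIso (CommRingCat.of A)).inv.hom a)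
  rw [Scheme.Hom.id_appTop]
  rfl

theorem T_map_smul (a : A) (K : Dual.D A) : letI := overSelf A
    (T A).map (a • 𝟙 K) = a • 𝟙 _ := by
  letI := overSelf A
  haveI : (tilde.functor (CommRingCat.of A)).Linear A := tilde_linear
  let M := DerivedCategory.Q.objPreimage K
  let e : DerivedCategory.Q.obj M ≅ K := DerivedCategory.Q.objObjPreimageIso K
  have hK : a • 𝟙 K = e.inv ≫ DerivedCategory.Q.map (a • 𝟙 M) ≫ e.hom := by
    rw [Functor.map_smul, CategoryTheory.Functor.map_id, Linear.smul_comp, Category.id_comp,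
      Linear.comp_smul, e.inv_hom_id]
  let φ := (tilde.functor (CommRingCat.of A)).mapDerivedCategoryFactors
  have h1 : ((tilde.functor (CommRingCat.of A)).mapHomologicalComplex (.up ℤ)).map (a • 𝟙 M) =
      a • 𝟙 (((tilde.functor (CommRingCat.of A)).mapHomologicalComplex (.up ℤ)).obj M) := by
    refine HomologicalComplex.hom_ext _ _ fun n => ?_
    rw [Functor.mapHomologicalComplex_map_f, HomologicalComplex.smul_f_apply,
      HomologicalComplex.smul_f_apply, HomologicalComplex.id_f, HomologicalComplex.id_f,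
      Functor.map_smul, CategoryTheory.Functor.map_id]
    rfl
  have hh : (T A).map (DerivedCategory.Q.map (a • 𝟙 M)) ≫ φ.hom.app M =
      φ.hom.app M ≫ DerivedCategory.Q.map
        (((tilde.functor (CommRingCat.of A)).mapHomologicalComplex (.up ℤ)).map (a • 𝟙 M)) :=
    φ.hom.naturality (a • 𝟙 M)
  rw [h1, Functor.map_smul (DerivedCategory.Q (C := (S A).Modules)), CategoryTheory.Functor.map_id] at hh
  have h2 : (T A).map (DerivedCategory.Q.map (a • 𝟙 M)) = a • 𝟙 _ :=
    (cancel_mono (φ.hom.app M)).1 (hh.trans ((Linear.comp_smul _ _ _ _ _ _).trans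
      ((congrArg (a • ·) ((Category.comp_id _).trans (Category.id_comp _).symm)).trans
        (Linear.smul_comp _ _ _ _ _ _).symm)))
  rw [hK, Functor.map_comp, Functor.map_comp, h2, Linear.smul_comp, Category.id_comp, Linear.comp_smul,
    ← Functor.map_comp, e.inv_hom_id, CategoryTheory.Functor.map_id]

theorem finite_hom_one [IsNoetherianRing A] (E : DCoh.D (S A)) (hE : DCoh.IsCohD E) :
    letI := overSelf A
    Module.Finite A (CompactUnit.oneD (S A) ⟶ E) := by
  letI := overSelf A
  obtain ⟨C, ⟨e⟩⟩ := TildeEquiv.exists_preimage (CommRingCat.of A) E fun i => (hE i).1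
  haveI := TildeEquiv.full (CommRingCat.of A)
  haveI := TildeEquiv.faithful (CommRingCat.of A)
  haveI : (T A).Linear A := Linear.linear_of_map_smul (T A) T_map_smul
  haveI : Module.Finite A (Dual.HD A C 0) := by
    refine Perfect.TildeFT.finite_of_isFT (R := CommRingCat.of A) _
      ((CohBasics.Closure.isCoh_of_iso (Perfect.TildeD.HIso C 0) ?_).2)
    exact CohBasics.Closure.isCoh_of_iso
      ((DerivedCategory.homologyFunctor _ 0).mapIso e).symm (hE 0)
  haveI : Module.Finite A ((KoszulOrth36.Algebra.X ([] : List A))⟦(-0 : ℤ)⟧ ⟶ C) :=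
    Module.Finite.equiv (KoszulOrth36.Algebra.homNilEquiv C 0).symm
  let i : (KoszulOrth36.Algebra.X ([] : List A))⟦(-0 : ℤ)⟧ ≅ (sg (0 : ℤ)).obj (ModuleCat.of A A) :=
    (shiftFunctorZero' _ (-0 : ℤ) neg_zero).app _ ≪≫ KoszulOrth36.Algebra.nilIso
  haveI : Module.Finite A ((sg (0 : ℤ)).obj (ModuleCat.of A A) ⟶ C) :=
    Module.Finite.equiv (CategoryTheory.Linear.homCongr A i (Iso.refl C))
  let t : ((sg (0 : ℤ)).obj (ModuleCat.of A A) ⟶ C) ≃ₗ[A]
      ((T A).obj ((sg (0 : ℤ)).obj (ModuleCat.of A A)) ⟶ (T A).obj C) :=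
    { (Functor.FullyFaithful.ofFullyFaithful (T A)).homEquiv with
      map_add' := fun f g => (T A).map_add
      map_smul' := fun a f => (T A).map_smul a f }
  haveI := Module.Finite.equiv t
  exact Module.Finite.equiv (CategoryTheory.Linear.homCongr A
    (ProjPCCrit.oneShiftIso 0 0 (add_zero 0) ≪≫ (shiftFunctorZero _ ℤ).app _) e)

end Affine

theorem isProperOver_support {X Y : Scheme.{u}} (f : X ⟶ Y) [IsProper f] {M : X.Modules}
    (hM : Coh.IsCoh M) : ClSub.IsProperOver f (CohB1.support M) :=
  ⟨haveI := hM.2; Modules.Support.isClosed_support M, inferInstance⟩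

theorem finite_hom [IsNoetherianRing A] {X : Scheme.{u}} [X.Over (Spec (CommRingCat.of A))]
    [IsProper (X ↘ Spec (CommRingCat.of A))] (K L : DCoh.D X) (hK : DCoh.IsCohD K) (b : ℤ) [K.IsLE b]
    (hL : DCoh.IsCohD L) (a : ℤ) [L.IsGE a] : Module.Finite A (K ⟶ L) := by
  haveI : IsLocallyNoetherian X :=
    LocallyOfFiniteType.isLocallyNoetherian (X ↘ Spec (CommRingCat.of A))
  letI := overSelf A
  let f : X ⟶ S A := X ↘ Spec (CommRingCat.of A)
  haveI : f.IsOver (Spec (CommRingCat.of A)) := ⟨Category.comp_id _⟩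
  haveI : IsProper f := ‹IsProper (X ↘ Spec (CommRingCat.of A))›
  let E := DerivedCategory.Q.objPreimage K
  let eE : DCoh.toD X E ≅ K := DerivedCategory.Q.objObjPreimageIso K
  haveI := LeftExists.hasLTensorCx E
  haveI := DualHomExists.hasRSheafHom E
  haveI := Exists.hasRpush f
  haveI := LeftExists.hasLpull f
  haveI : (DCoh.toD X E).IsLE b :=
    (DerivedCategory.isLE_iff _ _).2 fun i hi => (DerivedCategory.isZero_of_isLE K b i hi).of_iso
      ((DerivedCategory.homologyFunctor _ i).mapIso eE)
  have hEc : DCoh.IsCohD (DCoh.toD X E) := fun i => CohBasics.Closure.isCoh_of_iso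
    ((DerivedCategory.homologyFunctor _ i).mapIso eE).symm (hK i)
  let R := (DCoh.RSheafHom E).obj L
  haveI : R.IsGE (a - b) := SchColim29.RHomLocal.isGE_RHom E L a b
  have hR : DCoh.IsCohD R := fun n => SchColim29.RHomLocal.isCoh_HD E L hL a (a - n - 1)
    ((Perfect.PseudoCoh.iff_forall _ _).2
      fun x => Perfect.PCCoh.pcAt_of_coh (a - n - 1) (b + 1 - (a - n - 1)).toNat
        (DCoh.toD X E) b (by omega) inferInstance (fun i _ _ => hEc i) x) n (by omega)
  have hP : DCoh.IsCohD ((DCoh.Rpush f).obj R) :=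
    SchColim29.CohPush.isCohD_Rpush f R
      (fun i => ⟨hR i, isProperOver_support f (hR i)⟩) (a - b)
  haveI := finite_hom_one _ hP
  obtain ⟨e1⟩ := RpushCoprod.nonempty_Lpull_one f
  haveI := Linear.finite_of_adj_right (R := A) (PullPushAdj.derivedAdjunction f) (Rpush_map_smul f)
    (CompactUnit.oneD (S A)) R
  haveI : Module.Finite A (DerivedCategory.Q.obj (DerSch.unitCx X) ⟶ R) :=
    Module.Finite.equiv (CategoryTheory.Linear.homCongr A (e1 ≪≫ (DerivedCategory.singleFunctorIsoCompQ X.Modules 0).app (Coh.structureModule X)) (Iso.refl R))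
  haveI : (DCoh.LTensorCx E).Additive := BettiExact.LTensorTri.additive_LTensorCx E
  haveI := Linear.finite_of_adj_left (R := A) (DCoh.RSheafHomAdj E) (LTensorCx_map_smul E)
    (DerivedCategory.Q.obj (DerSch.unitCx X)) L
  exact Module.Finite.equiv (CategoryTheory.Linear.homCongr A (oneTensorIso E ≪≫ eE) (Iso.refl L))

end Groth.Agent.H83.ExtFinite
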