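import Groth.Agent.H83.ExtFinite.PnField
import Groth.Agent.H83.ExtFinite.AffineBd
import Groth.Agent.H83.ExtFinite.Main
import Groth.Agent.Lib.ProjSpace.BaseChange
import Groth.Agent.Lib.Perfect.Pullback
import Groth.Agent.Lib.Perfect.Coherent
import Groth.Prelude.Def_SGA6
import Groth.Prelude.Def_RelProj

/-!
# Bounded coherent objects on a projective scheme over a field
-/

set_option autoImplicit false
set_option linter.style.haveILetI false
set_option linter.unusedSectionVars false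

universe u

open CategoryTheory CategoryTheory.Limits AlgebraicGeometry

attribute [local instance] HasDerivedCategory.standard

namespace Groth.Agent.H83.ExtFinite.Projective

open Groth.Agent.Lib Groth.Agent.Lib.DerivedOX Groth.Agent.H83.AmpleGen Groth.Agent.H83.ProjPCCrit
open Groth.Agent.Lib.Perfect.Basic

section TwLinear

variable {A : Type u} [CommRing A] {X : Scheme.{u}} [X.Over (Spec (CommRingCat.of A))] (L : X.Modules)
  [(AmpleGen.tw L).IsEquivalence]

theorem tw_linear : (AmpleGen.tw L).Linear A := by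
  refine (Functor.linear_iff A _).2 fun M a => ?_
  rw [KLin.smul_id, KLin.smul_id]
  exact ZarCoh.Exchange.Linear.tmap_smul_id M L _

theorem twD_map_smul (a : A) (K : DCoh.D X) :
    (AmpleGen.tw L).mapDerivedCategory.map (a • 𝟙 K) = a • 𝟙 _ := by
  haveI := tw_linear (A := A) L
  let M := DerivedCategory.Q.objPreimage K
  let e : DerivedCategory.Q.obj M ≅ K := DerivedCategory.Q.objObjPreimageIso K
  have hK : a • 𝟙 K = e.inv ≫ DerivedCategory.Q.map (a • 𝟙 M) ≫ e.hom := by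
    rw [Functor.map_smul, CategoryTheory.Functor.map_id, CategoryTheory.Linear.smul_comp, Category.id_comp,
      CategoryTheory.Linear.comp_smul, e.inv_hom_id]
  let φ := (AmpleGen.tw L).mapDerivedCategoryFactors
  have h1 : ((AmpleGen.tw L).mapHomologicalComplex (.up ℤ)).map (a • 𝟙 M) =
      a • 𝟙 (((AmpleGen.tw L).mapHomologicalComplex (.up ℤ)).obj M) := by
    refine HomologicalComplex.hom_ext _ _ fun n => ?_
    rw [Functor.mapHomologicalComplex_map_f, HomologicalComplex.smul_f_apply,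
      HomologicalComplex.smul_f_apply, HomologicalComplex.id_f, HomologicalComplex.id_f,
      Functor.map_smul, CategoryTheory.Functor.map_id]
    rfl
  have hh : (AmpleGen.tw L).mapDerivedCategory.map (DerivedCategory.Q.map (a • 𝟙 M)) ≫ φ.hom.app M =
      φ.hom.app M ≫ DerivedCategory.Q.map
        (((AmpleGen.tw L).mapHomologicalComplex (.up ℤ)).map (a • 𝟙 M)) :=
    φ.hom.naturality (a • 𝟙 M)
  have h3 : DerivedCategory.Q.map (a • 𝟙 (((AmpleGen.tw L).mapHomologicalComplex (.up ℤ)).obj M)) =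
      a • 𝟙 (DerivedCategory.Q.obj (((AmpleGen.tw L).mapHomologicalComplex (.up ℤ)).obj M)) := by
    rw [Functor.map_smul, CategoryTheory.Functor.map_id]
  rw [h1, h3] at hh
  have h2 : (AmpleGen.tw L).mapDerivedCategory.map (DerivedCategory.Q.map (a • 𝟙 M)) = a • 𝟙 _ :=
    (cancel_mono (φ.hom.app M)).1 (hh.trans ((CategoryTheory.Linear.comp_smul _ _ _ _ _ _).trans
      ((congrArg (a • ·) ((Category.comp_id _).trans (Category.id_comp _).symm)).trans
        (CategoryTheory.Linear.smul_comp _ _ _ _ _ _).symm)))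
  rw [hK, Functor.map_comp, Functor.map_comp, h2, CategoryTheory.Linear.smul_comp, Category.id_comp,
    CategoryTheory.Linear.comp_smul, ← Functor.map_comp, e.inv_hom_id, CategoryTheory.Functor.map_id]

end TwLinear

attribute [local instance] PnField.overPn

variable {k : Type u} [Field k] {X : Scheme.{u}} [X.Over (Spec (CommRingCat.of k))]

theorem cohb_of_finite {n : ℕ} (i : X ⟶ CohB1.ProjSpace n k) [IsClosedImmersion i]
    [i.IsOver (Spec (CommRingCat.of k))] {K : DCoh.D X} (hK : DCoh.IsQCohD K)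
    (h : ∀ E : DCoh.D X, DCoh.IsPerfect E →
      (∀ l : ℤ, Module.Finite k (E ⟶ K⟦l⟧)) ∧ Set.Finite {l : ℤ | Nontrivial (E ⟶ K⟦l⟧)}) :
    DCoh.IsCohD K ∧ ∃ a b : ℤ, K.IsGE a ∧ K.IsLE b := by
  haveI : IsProper (CohB1.ProjSpace.toSpec n k) := by
    rw [← ProjSpace.BaseChange.overSpecIso_inv_toBase]; infer_instance
  haveI : IsLocallyNoetherian (CohB1.ProjSpace n k) :=
    LocallyOfFiniteType.isLocallyNoetherian (CohB1.ProjSpace.toSpec n k)
  haveI : CompactSpace (CohB1.ProjSpace n k) :=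
    QuasiCompact.compactSpace_of_compactSpace (CohB1.ProjSpace.toSpec n k)
  haveI : IsNoetherian (CohB1.ProjSpace n k) := {}
  haveI := Exists.hasRpush i
  haveI := LeftExists.hasLpull i
  let adj := PullPushAdj.derivedAdjunction i
  have hR := Rpush_map_smul (A := k) i
  haveI := Linear.linear_of_map_smul (R := k) (DCoh.Rpush i) hR
  let E := fun d : ℕ => (DCoh.Lpull i).obj ((Tq n k (-(d : ℤ))).obj (CompactUnit.oneD (CohB1.ProjSpace n k)))
  have hE : ∀ d, DCoh.IsPerfect (E d) := fun d => Perfect.Pullback.isPerfect_Lpull i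
    (isPerfect_tw _ (ProjCoh.Coherent.isInvertible_tw _) (Gen43.Affine.isPerfect_oneD' _))
  have key : ∀ (d : ℕ) (m : ℤ),
      Nonempty ((E d ⟶ K⟦-m⟧) ≃ₗ[k] (PnField.on n k m ⟶ (Tq n k (d : ℤ)).obj ((DCoh.Rpush i).obj K))) := by
    intro d m
    haveI := full_Tq n k (d : ℤ)
    haveI := faithful_Tq n k (d : ℤ)
    haveI := Linear.linear_of_map_smul (R := k) (Tq n k (d : ℤ)) (twD_map_smul (A := k) (PT n k (d : ℤ)))
    let O' := (Tq n k (-(d : ℤ))).obj (CompactUnit.oneD (CohB1.ProjSpace n k))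
    obtain ⟨j⟩ := nonempty_Tq_cancel n k (-(d : ℤ)) (d : ℤ) (neg_add_cancel _)
      (CompactUnit.oneD (CohB1.ProjSpace n k))
    let l₁ : (E d ⟶ K⟦-m⟧) ≃ₗ[k] (O' ⟶ (DCoh.Rpush i).obj (K⟦-m⟧)) :=
      { adj.homAddEquiv O' (K⟦-m⟧) with
        map_smul' := fun a φ => by simp [Adjunction.homEquiv_unit] }
    let c : (DCoh.Rpush i).obj (K⟦-m⟧) ≅ ((DCoh.Rpush i).obj K)⟦-m⟧ := ((DCoh.Rpush i).commShiftIso (-m)).app K
    let l₂ : (O' ⟶ ((DCoh.Rpush i).obj K)⟦-m⟧) ≃ₗ[k]
        ((Tq n k (d : ℤ)).obj O' ⟶ (Tq n k (d : ℤ)).obj (((DCoh.Rpush i).obj K)⟦-m⟧)) :=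
      { (Functor.FullyFaithful.ofFullyFaithful (Tq n k (d : ℤ))).homEquiv with
        map_add' := fun f g => (Tq n k (d : ℤ)).map_add
        map_smul' := fun a f => (Tq n k (d : ℤ)).map_smul a f }
    let c₂ : (Tq n k (d : ℤ)).obj (((DCoh.Rpush i).obj K)⟦-m⟧) ≅ ((Tq n k (d : ℤ)).obj ((DCoh.Rpush i).obj K))⟦-m⟧ :=
      ((Tq n k (d : ℤ)).commShiftIso (-m)).app _
    let sh := shiftFunctor (DCoh.D (CohB1.ProjSpace n k)) (-m)
    let l₃ : (PnField.on n k m ⟶ (Tq n k (d : ℤ)).obj ((DCoh.Rpush i).obj K)) ≃ₗ[k]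
        (sh.obj (PnField.on n k m) ⟶ sh.obj ((Tq n k (d : ℤ)).obj ((DCoh.Rpush i).obj K))) :=
      { (Functor.FullyFaithful.ofFullyFaithful sh).homEquiv with
        map_add' := fun f g => sh.map_add
        map_smul' := fun a f => sh.map_smul a f }
    let e₁ : sh.obj (PnField.on n k m) ≅ CompactUnit.oneD (CohB1.ProjSpace n k) :=
      (shiftFunctorCompIsoId _ m (-m) (by omega)).app _
    exact ⟨l₁ ≪≫ₗ CategoryTheory.Linear.homCongr k (Iso.refl _) c ≪≫ₗ l₂ ≪≫ₗ
      CategoryTheory.Linear.homCongr k (j ≪≫ e₁.symm) c₂ ≪≫ₗ l₃.symm⟩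
  have hinv : PnField.Inv 0 ((DCoh.Rpush i).obj K) := by
    refine ⟨RpushQCoh.isQCohD_Rpush i K hK, fun d _ m => ?_, fun d _ => ?_,
      fun d hd => absurd hd (Nat.not_lt_zero d)⟩
    · obtain ⟨l⟩ := key d m
      haveI := (h (E d) (hE d)).1 (-m)
      exact Module.Finite.equiv l
    · refine ⟨((h (E d) (hE d)).2).toFinset.image fun l => -l, fun m hm => ?_⟩
      obtain ⟨l⟩ := key d m
      have : Subsingleton (E d ⟶ K⟦-m⟧) := not_nontrivial_iff_subsingleton.1 fun hnt =>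
        hm (Finset.mem_image.2 ⟨-m, ((h (E d) (hE d)).2).mem_toFinset.2 hnt, neg_neg m⟩)
      have := l.symm.toEquiv.subsingleton
      exact fun ψ => Subsingleton.elim _ _
  have hp := PnField.isPerfect_of_inv (n + 1) 0 _ (by omega) hinv
  obtain ⟨a, b, ha, hb⟩ := Perfect.Coherent.bounded_of_isPerfect hp
  exact AffineBd.cohb_of_Rpush i K hK (Perfect.Coherent.isCohD_of_isPerfect hp) a b

theorem cohbP_of_finite (hproj : RelProj.IsHProjective (X ↘ Spec (CommRingCat.of k)))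
    {K : DCoh.D X} (hK : DCoh.IsQCohD K)
    (h : ∀ E : DCoh.D X, DCoh.IsPerfect E →
      (∀ l : ℤ, Module.Finite k (E ⟶ K⟦l⟧)) ∧ Set.Finite {l : ℤ | Nontrivial (E ⟶ K⟦l⟧)}) :
    SGA6.cohbP X K := by
  obtain ⟨n, j, hj, hf⟩ := hproj
  let i := j ≫ (ProjSpace.BaseChange.overSpecIso n k).hom
  haveI : i.IsOver (Spec (CommRingCat.of k)) := ⟨by
    change (j ≫ (ProjSpace.BaseChange.overSpecIso n k).hom) ≫ CohB1.ProjSpace.toSpec n k = _
    rw [Category.assoc, ProjSpace.BaseChange.overSpecIso_hom_toSpec]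
    exact hf⟩
  exact cohb_of_finite i hK h

end Groth.Agent.H83.ExtFinite.Projective
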