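import Groth.Agent.H83.ExtFinite.Main
import Groth.Agent.H56.ProjPC.Bound
import Groth.Agent.H56.PSup.PC
import Groth.Agent.Lib.DerivedOX.DualMain
import Groth.Agent.Lib.Perfect.Coherent

/-!
# `Hom(E, K[i]) = 0` for `i ≫ 0`
-/

set_option autoImplicit false
set_option linter.style.haveILetI false
set_option linter.unusedSectionVars false

universe u

open CategoryTheory CategoryTheory.Limits AlgebraicGeometry HomologicalComplex

attribute [local instance] HasDerivedCategory.standard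

namespace Groth.Agent.H83.ExtFinite

open Groth.Agent.Lib Groth.Agent.Lib.DerivedOX Groth.Agent.Lib.Gen43.Affine

theorem exists_cover (X : Scheme.{u}) [CompactSpace X] :
    ∃ (r : ℕ) (U : Fin (r + 1) → X.Opens), (∀ i, IsAffineOpen (U i)) ∧ ⨆ i, U i = ⊤ := by
  obtain ⟨t, ht⟩ := CompactSpace.isCompact_univ.elim_finite_subcover
    (fun U : X.affineOpens => (U.1 : Set X)) (fun U => U.1.2) (fun x _ => by
      obtain ⟨U, hU, hx, -⟩ := TopologicalSpace.Opens.isBasis_iff_nbhd.1 X.isBasis_affineOpens (show x ∈ (⊤ : X.Opens) from trivial)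
      exact Set.mem_iUnion.2 ⟨⟨U, hU⟩, hx⟩)
  refine ⟨t.card, fun i => if h : i.1 < t.card then (t.equivFin.symm ⟨i.1, h⟩).1.1 else ⊥,
    fun i => ?_, eq_top_iff.2 fun x _ => ?_⟩
  · dsimp only
    split
    · exact (t.equivFin.symm ⟨i.1, _⟩).1.2
    · exact isAffineOpen_bot X
  · obtain ⟨U, hU, hx⟩ := Set.mem_iUnion₂.1 (ht (Set.mem_univ x))
    refine TopologicalSpace.Opens.mem_iSup.2 ⟨(t.equivFin ⟨U, hU⟩).castSucc, ?_⟩
    simp only [Fin.val_castSucc, Fin.is_lt, dite_true, Fin.eta, Equiv.symm_apply_apply]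
    exact hx

theorem exists_vanish {A : Type u} [CommRing A] [IsNoetherianRing A] {X : Scheme.{u}}
    (f : X ⟶ Spec (CommRingCat.of A)) [IsProper f] {E : DCoh.D X} (hE : DCoh.IsPerfect E)
    {K : DCoh.D X} (hK : DCoh.IsCohD K) (a b : ℤ) [K.IsGE a] [K.IsLE b] :
    ∃ N : ℤ, ∀ i : ℤ, N < i → ∀ φ : E ⟶ K⟦i⟧, φ = 0 := by
  haveI : IsLocallyNoetherian X := LocallyOfFiniteType.isLocallyNoetherian f
  haveI : CompactSpace X := QuasiCompact.compactSpace_of_compactSpace f
  haveI : IsNoetherian X := {}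
  haveI : X.IsSeparated := ⟨by rw [← terminal.comp_from f]; infer_instance⟩
  obtain ⟨r, U, hU, hcov⟩ := exists_cover X
  let E₀ := DerivedCategory.Q.objPreimage E
  let eE : DCoh.toD X E₀ ≅ E := DerivedCategory.Q.objObjPreimageIso E
  haveI := LeftExists.hasLTensorCx E₀
  haveI := DualHomExists.hasRSheafHom E₀
  haveI := Exists.hasRpush f
  haveI := LeftExists.hasLpull f
  have hE₀ : DCoh.IsPerfect (DCoh.toD X E₀) := Perfect.Triangle.isPerfect_of_iso eE.symm hE
  obtain ⟨-, c, -, hc⟩ := Perfect.Coherent.bounded_of_isPerfect hE₀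
  haveI : (DCoh.toD X E₀).IsLE c := hc
  have hEc := Perfect.Coherent.isCohD_of_isPerfect hE₀
  haveI : QuasiIso ((KFlat.aug X).app E₀) := KFlat.quasiIso_aug E₀
  have hKf := KFlat.isKFlat_res E₀
  let q := (KFlat.aug X).app E₀
  obtain ⟨J₀, hp, ⟨e⟩⟩ := DualMain.exists_dual (K := E₀) hKf q hE₀
  obtain ⟨α, β, D, hDv, hDf, ⟨eD⟩⟩ := SchColim29.PerfTensor.flatAmp_of_isPerfect
    (Perfect.Triangle.isPerfect_of_iso e hp)
  haveI := LeftExists.hasLTensorCx D
  refine ⟨b + β + r, fun i hi => ?_⟩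
  let L := K⟦i⟧
  haveI : L.IsLE (b - i) := DerivedCategory.TStructure.t.isLE_shift K b i (b - i) (by omega)
  haveI : L.IsGE (a - i) := DerivedCategory.TStructure.t.isGE_shift K a i (a - i) (by omega)
  have hL : DCoh.IsCohD L := fun j => CohBasics.Closure.isCoh_of_iso
    (((DerivedCategory.homologyFunctor X.Modules 0).shiftIso i j (i + j) rfl).app K).symm (hK (i + j))
  obtain ⟨θ⟩ := DualMain.nonempty_LTensorCx_iso_RSheafHom (K := E₀) hKf q hE₀ D eD L
  let R := (DCoh.RSheafHom E₀).obj L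
  haveI : R.IsLE (b - i + β) := by
    haveI := H56.PSup.PC.isLE_LTensor D (b - i) β (fun j hj => hDv j (Or.inr hj)) ‹_›
    exact DerivedCategory.TStructure.t.isLE_of_iso θ _
  have hR : DCoh.IsQCohD R := fun n => (SchColim29.RHomLocal.isCoh_HD E₀ L hL (a - i) (a - i - n - 1)
    ((Perfect.PseudoCoh.iff_forall _ _).2
      fun x => Perfect.PCCoh.pcAt_of_coh (a - i - n - 1) (c + 1 - (a - i - n - 1)).toNat
        (DCoh.toD X E₀) c (by omega) inferInstance (fun i _ _ => hEc i) x) n (by omega)).1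
  haveI := H56.ProjPC.isLE_Rpush_of_cover f U hU hcov R (b - i + β) hR
  have hP : DCoh.IsQCohD ((DCoh.Rpush f).obj R) := RpushQCoh.isQCohD_Rpush f R hR
  obtain ⟨e1⟩ := RpushCoprod.nonempty_Lpull_one f
  have h0 : ∀ ψ : CompactUnit.oneD (S A) ⟶ (DCoh.Rpush f).obj R, ψ = 0 := fun ψ => by
    have h := (ProjPCCrit.forall_hom_eq_zero_iff hP 0 0 (add_zero 0)).2
      (DerivedCategory.isZero_of_isLE _ (b - i + β + r) 0 (by omega))
      (((shiftFunctorZero _ ℤ).app _).hom ≫ ψ)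
    exact (cancel_epi _).1 (h.trans comp_zero.symm)
  let W : (E ⟶ L) ≃ (CompactUnit.oneD (S A) ⟶ (DCoh.Rpush f).obj R) :=
    ((Iso.homCongr (oneTensorIso E₀ ≪≫ eE) (Iso.refl L)).symm.trans
      ((DCoh.RSheafHomAdj E₀).homEquiv _ L)).trans
      ((Iso.homCongr (e1 ≪≫ (DerivedCategory.singleFunctorIsoCompQ X.Modules 0).app (Coh.structureModule X))
        (Iso.refl R)).symm.trans ((PullPushAdj.derivedAdjunction f).homEquiv _ R))
  haveI : Subsingleton (CompactUnit.oneD (S A) ⟶ (DCoh.Rpush f).obj R) := subsingleton_of_forall_eq 0 h0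
  intro φ
  exact W.subsingleton.elim φ 0

end Groth.Agent.H83.ExtFinite
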