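import Mathlib.CategoryTheory.Functor.Derived.RightDerived
import Mathlib.CategoryTheory.Functor.Derived.LeftDerived
import Mathlib.CategoryTheory.Adjunction.Additive
import Mathlib.CategoryTheory.Linear.LinearFunctor
import Mathlib.RingTheory.Finiteness.Basic

/-!
# Derived functors and adjoints of linear functors are linear
-/

set_option autoImplicit false

universe t v₁ v₂ v₃ u₁ u₂ u₃

open CategoryTheory

namespace Groth.Agent.H83.ExtFinite.Linear

variable {R : Type t} [Ring R] {C : Type u₁} [Category.{v₁} C] {D : Type u₂} [Category.{v₂} D]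
  {E : Type u₃} [Category.{v₃} E] [Preadditive D] [Preadditive E]
  [CategoryTheory.Linear R D] [CategoryTheory.Linear R E]

/-- Multiplication by a scalar as a natural transformation. -/
def scalar (F : D ⥤ E) (a : R) : F ⟶ F where
  app X := a • 𝟙 (F.obj X)
  naturality X Y f := by rw [Linear.comp_smul, Linear.smul_comp, Category.comp_id, Category.id_comp]

/-- The image of multiplication by a scalar as a natural transformation. -/
def mapScalar (F : D ⥤ E) (a : R) : F ⟶ F where
  app X := F.map (a • 𝟙 X)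
  naturality X Y f := by
    rw [← F.map_comp, ← F.map_comp]
    congr 1
    rw [Linear.comp_smul, Linear.smul_comp, Category.comp_id, Category.id_comp]

theorem right_map_smul (L : C ⥤ D) (W : MorphismProperty C) [L.IsLocalization W] (F : C ⥤ E)
    (RF : D ⥤ E) (α : F ⟶ L ⋙ RF) [RF.IsRightDerivedFunctor α W] (a : R)
    (hC : ∀ M : C, ∃ s : M ⟶ M, L.map s = a • 𝟙 _ ∧ F.map s = a • 𝟙 _) (X : D) :
    RF.map (a • 𝟙 X) = a • 𝟙 _ := by
  refine NatTrans.congr_app (RF.rightDerived_ext α W RF (mapScalar RF a) (scalar RF a) ?_) X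
  ext M
  obtain ⟨s, hL, hF⟩ := hC M
  have h : α.app M ≫ RF.map (L.map s) = F.map s ≫ α.app M := (α.naturality s).symm
  rw [hL, hF, Linear.smul_comp, Category.id_comp] at h
  change α.app M ≫ RF.map (a • 𝟙 _) = α.app M ≫ (a • 𝟙 _)
  rw [h, Linear.comp_smul]; erw [Category.comp_id]

theorem left_map_smul (L : C ⥤ D) (W : MorphismProperty C) [L.IsLocalization W] (F : C ⥤ E)
    (LF : D ⥤ E) (α : L ⋙ LF ⟶ F) [LF.IsLeftDerivedFunctor α W] (a : R)
    (hC : ∀ M : C, ∃ s : M ⟶ M, L.map s = a • 𝟙 _ ∧ F.map s = a • 𝟙 _) (X : D) :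
    LF.map (a • 𝟙 X) = a • 𝟙 _ := by
  refine NatTrans.congr_app (LF.leftDerived_ext α W LF (mapScalar LF a) (scalar LF a) ?_) X
  ext M
  obtain ⟨s, hL, hF⟩ := hC M
  have h : LF.map (L.map s) ≫ α.app M = α.app M ≫ F.map s := α.naturality s
  rw [hL, hF, Linear.comp_smul, Category.comp_id] at h
  change LF.map (a • 𝟙 _) ≫ α.app M = (a • 𝟙 _) ≫ α.app M
  rw [h, Linear.smul_comp]; erw [Category.id_comp]

theorem linear_of_map_smul (F : D ⥤ E) [F.Additive] (h : ∀ (a : R) X, F.map (a • 𝟙 X) = a • 𝟙 _) :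
    F.Linear R :=
  (Functor.linear_iff R F).2 fun X a => h a X

/-- Transfer of finiteness along an adjunction whose right adjoint commutes with scalars. -/
theorem finite_of_adj_right {F : D ⥤ E} {G : E ⥤ D} (adj : F ⊣ G) [G.Additive]
    (h : ∀ (a : R) Y, G.map (a • 𝟙 Y) = a • 𝟙 _) (X : D) (Y : E)
    [Module.Finite R (X ⟶ G.obj Y)] : Module.Finite R (F.obj X ⟶ Y) := by
  haveI := linear_of_map_smul G h
  haveI : F.Additive := adj.left_adjoint_additive
  exact Module.Finite.equiv (({ adj.homAddEquiv X Y with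
    map_smul' := fun a f => by
      simp [Adjunction.homEquiv_unit] } : (F.obj X ⟶ Y) ≃ₗ[R] (X ⟶ G.obj Y)).symm)

/-- Transfer of finiteness along an adjunction whose left adjoint commutes with scalars. -/
theorem finite_of_adj_left {F : D ⥤ E} {G : E ⥤ D} (adj : F ⊣ G) [F.Additive]
    (h : ∀ (a : R) X, F.map (a • 𝟙 X) = a • 𝟙 _) (X : D) (Y : E)
    [Module.Finite R (X ⟶ G.obj Y)] : Module.Finite R (F.obj X ⟶ Y) := by
  haveI := linear_of_map_smul F h
  exact Module.Finite.equiv ({ (adj.homAddEquiv X Y).symm with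
    map_smul' := fun a f => by
      simp [Adjunction.homEquiv_counit] } : (X ⟶ G.obj Y) ≃ₗ[R] (F.obj X ⟶ Y))

end Groth.Agent.H83.ExtFinite.Linear
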