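import Groth.Agent.H83.ProjPCCrit.Main
import Groth.Agent.Lib.ProjCoh.Homog
import Groth.Agent.Lib.DerivedOX.OpenSupport
import Groth.Prelude.Def_KLin
import Mathlib.Algebra.Homology.DerivedCategory.Linear

/-!
# Perfectness from finiteness of twisted cohomology on `P^n` over a field
-/

set_option autoImplicit false
set_option linter.style.haveILetI false
set_option linter.unusedSectionVars false

universe u

open CategoryTheory CategoryTheory.Limits CategoryTheory.Pretriangulated AlgebraicGeometry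

attribute [local instance] HasDerivedCategory.standard

namespace Groth.Agent.H83.ExtFinite.PnField

open Groth.Agent.Lib Groth.Agent.Lib.DerivedOX Groth.Agent.H83.AmpleGen Groth.Agent.H83.ProjPCCrit
open CategoryTheory.Abelian

variable {n : ℕ} {k : Type u} [Field k]

/-- `P^n` over `Spec k`. -/
@[implicit_reducible]
noncomputable def overPn (n : ℕ) (k : Type u) [Field k] :
    (CohB1.ProjSpace n k).Over (Spec (CommRingCat.of k)) := ⟨CohB1.ProjSpace.toSpec n k⟩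

attribute [local instance] overPn

local notation "P" => CohB1.ProjSpace n k

variable (n k) in
/-- `O` in degree `-m`. -/
noncomputable abbrev on (m : ℤ) : DCoh.D (CohB1.ProjSpace n k) :=
  (CompactUnit.oneD (CohB1.ProjSpace n k))⟦m⟧

/-- `H^0(O(c))` as maps. -/
theorem nonempty_hom_equiv (c : ℤ) (m : ℤ) :
    Nonempty ((on n k m ⟶ (DCoh.inD P (PT n k c))⟦m⟧) ≃ₗ[k] Coh.HH P (ProjCoh.Sections.TS n k c) 0) := by
  let S := DerivedCategory.singleFunctor (CohB1.ProjSpace n k).Modules 0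
  let sh := shiftFunctor (DCoh.D P) m
  let l₁ : (CompactUnit.oneD P ⟶ DCoh.inD P (PT n k c)) ≃ₗ[k] (on n k m ⟶ (DCoh.inD P (PT n k c))⟦m⟧) :=
    { (Functor.FullyFaithful.ofFullyFaithful sh).homEquiv with
      map_add' := fun f g => sh.map_add
      map_smul' := fun a f => sh.map_smul a f }
  let l₂ : (Coh.structureModule P ⟶ PT n k c) ≃ₗ[k] (CompactUnit.oneD P ⟶ DCoh.inD P (PT n k c)) :=
    { (Functor.FullyFaithful.ofFullyFaithful S).homEquiv with
      map_add' := fun f g => S.map_add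
      map_smul' := fun a f => S.map_smul a f }
  exact ⟨l₁.symm ≪≫ₗ l₂.symm ≪≫ₗ Linear.homCongr k (Iso.refl _) (ProjCoh.Coherent.twIso c) ≪≫ₗ
    (Ext.linearEquiv₀ (R := k)).symm ≪≫ₗ ExtHH.Basic.extUnitEquiv k _ 0⟩

theorem hom_eq_zero_of_gt {c m s : ℤ} (h : s < m) (φ : on n k m ⟶ (DCoh.inD P (PT n k c))⟦s⟧) : φ = 0 := by
  haveI : (CompactUnit.oneD P).IsLE 0 :=
    (inferInstance : ((DerivedCategory.singleFunctor (CohB1.ProjSpace n k).Modules 0).obj
      (Coh.structureModule (CohB1.ProjSpace n k))).IsLE 0)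
  haveI : (DCoh.inD P (PT n k c)).IsGE 0 :=
    (inferInstance : ((DerivedCategory.singleFunctor (CohB1.ProjSpace n k).Modules 0).obj (PT n k c)).IsGE 0)
  haveI : (on n k m).IsLE (-m) :=
    DerivedCategory.TStructure.t.isLE_shift (CompactUnit.oneD P) 0 m (-m) (by omega)
  haveI : ((DCoh.inD P (PT n k c))⟦s⟧).IsGE (-s) :=
    DerivedCategory.TStructure.t.isGE_shift (DCoh.inD P (PT n k c)) 0 s (-s) (by omega)
  exact DerivedCategory.TStructure.t.zero φ (-m) (-s) (by omega)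

theorem hom_eq_zero_of_neg {c : ℤ} (hc : -(n : ℤ) ≤ c) (hc' : c < 0) (m s : ℤ)
    (φ : on n k m ⟶ (DCoh.inD P (PT n k c))⟦s⟧) : φ = 0 := by
  rcases lt_trichotomy m s with h | h | h
  · exact hom_one_twist_eq_zero n k hc m s h φ
  · subst h
    obtain ⟨e⟩ := nonempty_hom_equiv (n := n) (k := k) c m
    haveI := ProjCoh.Homog.subsingleton_HH_zero_of_neg (n := n) (R := k) (d := c) (by omega) hc'
    haveI := e.toEquiv.subsingleton
    exact Subsingleton.elim _ _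
  · exact hom_eq_zero_of_gt h φ

theorem finite_hom_twist {c : ℤ} (hc : -(n : ℤ) ≤ c) (m s : ℤ) :
    Module.Finite k (on n k m ⟶ (DCoh.inD P (PT n k c))⟦s⟧) := by
  by_cases hz : ∀ φ : on n k m ⟶ (DCoh.inD P (PT n k c))⟦s⟧, φ = 0
  · haveI := subsingleton_of_forall_eq 0 hz
    exact Module.Finite.of_finite
  · have hm : m = s := by
      by_contra h
      rcases lt_or_gt_of_ne h with h | h
      · exact hz (hom_one_twist_eq_zero n k hc m s h)
      · exact hz (hom_eq_zero_of_gt h)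
    subst hm
    have hc' : 0 ≤ c := by
      by_contra h
      exact hz (hom_eq_zero_of_neg hc (by omega) m m)
    obtain ⟨d, rfl⟩ := Int.eq_ofNat_of_zero_le hc'
    obtain ⟨e⟩ := nonempty_hom_equiv (n := n) (k := k) (d : ℤ) m
    obtain ⟨e₁⟩ := ProjCoh.Homog.nonempty_HH_zero_equiv n d k
    obtain ⟨e₂⟩ := ProjCoh.Homog.nonempty_homog_equiv n d k
    exact Module.Finite.equiv (e ≪≫ₗ e₁ ≪≫ₗ e₂.symm).symm

theorem finrank_hom_self (m : ℤ) :
    Module.finrank k (on n k m ⟶ (DCoh.inD P (PT n k 0))⟦m⟧) = 1 := by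
  obtain ⟨e⟩ := nonempty_hom_equiv (n := n) (k := k) ((0 : ℕ) : ℤ) m
  obtain ⟨e₁⟩ := ProjCoh.Homog.nonempty_HH_zero_equiv n 0 k
  obtain ⟨e₂⟩ := ProjCoh.Homog.nonempty_homog_equiv n 0 k
  haveI := Fintype.ofFinite (ProjCoh.Homog.Expn n 0)
  refine (e ≪≫ₗ e₁ ≪≫ₗ e₂.symm).finrank_eq.trans ?_
  rw [Module.finrank_fintype_fun_eq_card, Fintype.card_eq_one_iff]
  exact ⟨⟨0, by simp⟩, fun s => Subtype.ext ((Finsupp.degree_eq_zero_iff s.1).1 s.2)⟩

/-- The finiteness hypothesis, and vanishing below `e`. -/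
structure Inv (e : ℕ) (K : DCoh.D (CohB1.ProjSpace n k)) : Prop where
  qc : DCoh.IsQCohD K
  fin : ∀ d : ℕ, d ≤ n → ∀ m : ℤ, Module.Finite k (on n k m ⟶ (Tq n k (d : ℤ)).obj K)
  supp : ∀ d : ℕ, d ≤ n → ∃ S : Finset ℤ, ∀ m : ℤ, m ∉ S → Hd n k (d : ℤ) m K
  low : ∀ d : ℕ, d < e → d ≤ n → ∀ m : ℤ, Hd n k (d : ℤ) m K

theorem finite_mid {T : Triangle (DCoh.D P)} (hT : T ∈ distTriang _) (W : DCoh.D P)
    [Module.Finite k (W ⟶ T.obj₁)] [Module.Finite k (W ⟶ T.obj₃)] : Module.Finite k (W ⟶ T.obj₂) := by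
  have hex : Function.Exact (Linear.rightComp k W T.mor₁)
      (Linear.rightComp k W T.mor₂).rangeRestrict := fun f => by
    constructor
    · intro hf
      obtain ⟨g, hg⟩ := Triangle.coyoneda_exact₂ T hT f (congrArg Subtype.val hf)
      exact ⟨g, hg.symm⟩
    · rintro ⟨g, rfl⟩
      refine Subtype.ext ?_
      change (g ≫ T.mor₁) ≫ T.mor₂ = 0
      rw [Category.assoc, comp_distTriang_mor_zero₁₂ T hT, comp_zero]
  exact Module.Finite.of_exact hex (LinearMap.surjective_rangeRestrict _)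

theorem step {e : ℕ} (he : e ≤ n) {K : DCoh.D P} (hK : Inv e K) (m₀ : ℤ)
    (φ : on n k m₀ ⟶ (Tq n k (e : ℤ)).obj K) (hφ : φ ≠ 0) :
    ∃ K' : DCoh.D P, Inv e K' ∧ (DCoh.IsPerfect K' → DCoh.IsPerfect K) ∧
      (∀ m, ∃ g : (on n k m ⟶ (Tq n k (e : ℤ)).obj K) →ₗ[k] (on n k m ⟶ (Tq n k (e : ℤ)).obj K'),
        Function.Surjective g ∧ (m = m₀ → ¬ Function.Injective g)) := by
  haveI := full_Tq n k (e : ℤ)
  haveI := faithful_Tq n k (e : ℤ)
  let Q : DCoh.D P := (Tq n k (-(e : ℤ))).obj (on n k m₀)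
  obtain ⟨j⟩ := nonempty_Tq_cancel n k (-(e : ℤ)) (e : ℤ) (neg_add_cancel _) (on n k m₀)
  let β : Q ⟶ K := (Tq n k (e : ℤ)).preimage (j.hom ≫ φ)
  have hβ : (Tq n k (e : ℤ)).map β = j.hom ≫ φ := (Tq n k (e : ℤ)).map_preimage _
  obtain ⟨K', g, δ, hT⟩ := distinguished_cocone_triangle β
  have hQp : DCoh.IsPerfect Q := isPerfect_tw _ (ProjCoh.Coherent.isInvertible_tw _)
    (Perfect.Triangle.isPerfect_shift (Gen43.Affine.isPerfect_oneD' _) _)
  -- the twists of `Q⟦1⟧`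
  have hQ : ∀ d : ℕ, Nonempty ((Tq n k (d : ℤ)).obj (Q⟦(1 : ℤ)⟧) ≅
      (DCoh.inD P (PT n k ((d : ℤ) - e)))⟦m₀ + 1⟧) := fun d => by
    obtain ⟨e₂⟩ := nonempty_Tq_add n k (-(e : ℤ)) (d : ℤ) ((d : ℤ) - e) (by omega) (on n k m₀)
    obtain ⟨e₃⟩ := nonempty_Tq_one n k ((d : ℤ) - e) m₀
    exact ⟨((Tq n k (d : ℤ)).commShiftIso (1 : ℤ)).app Q ≪≫ (shiftFunctor _ (1 : ℤ)).mapIso (e₂ ≪≫ e₃) ≪≫
      ((shiftFunctorAdd' (DCoh.D P) m₀ 1 (m₀ + 1) rfl).app _).symm⟩
  have hTd := fun d : ℕ => (Tq n k (d : ℤ)).map_distinguished _ (rot_of_distTriang _ hT)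
  have hfin : ∀ d : ℕ, d ≤ n → ∀ m, Module.Finite k (on n k m ⟶ (Tq n k (d : ℤ)).obj K') := fun d hd m => by
    obtain ⟨i⟩ := hQ d
    haveI := finite_hom_twist (n := n) (k := k) (show -(n : ℤ) ≤ (d : ℤ) - e by omega) m (m₀ + 1)
    haveI : Module.Finite k (on n k m ⟶ (Tq n k (d : ℤ)).obj (Q⟦(1 : ℤ)⟧)) :=
      Module.Finite.equiv (Linear.homCongr k (Iso.refl _) i.symm)
    haveI := hK.fin d hd m
    exact @finite_mid _ _ _ _ (hTd d) (on n k m) ‹_› ‹_›
  have hvan : ∀ (d : ℕ) (m : ℤ), Hd n k (d : ℤ) m K →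
      (∀ χ : on n k m ⟶ (DCoh.inD P (PT n k ((d : ℤ) - e)))⟦m₀ + 1⟧, χ = 0) → Hd n k (d : ℤ) m K' := by
    intro d m h1 h2 χ
    obtain ⟨i⟩ := hQ d
    have h3 : χ ≫ (Tq n k (d : ℤ)).map δ = 0 :=
      (cancel_mono i.hom).1 ((h2 _).trans zero_comp.symm)
    obtain ⟨ψ, rfl⟩ := Triangle.coyoneda_exact₂ _ (hTd d) χ h3
    exact (congrArg (· ≫ _) (h1 ψ)).trans zero_comp
  refine ⟨K', ⟨?_, hfin, fun d hd => ?_, fun d hde hd m => ?_⟩,
    fun h => Perfect.Triangle.isPerfect₂ hT hQp h, fun m => ?_⟩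
  · exact TildeEquiv.isQCohD_mor₃ _ hT (Perfect.QCohD.isQCohD_of_isPerfect hQp) hK.qc
  · obtain ⟨S, hS⟩ := hK.supp d hd
    refine ⟨insert (m₀ + 1) (insert m₀ S), fun m hm => ?_⟩
    simp only [Finset.mem_insert, not_or] at hm
    refine hvan d m (hS m hm.2.2) fun χ => ?_
    rcases lt_or_gt_of_ne hm.1 with h | h
    · exact hom_one_twist_eq_zero n k (show -(n : ℤ) ≤ (d : ℤ) - e by omega) m (m₀ + 1) h χ
    · exact hom_eq_zero_of_gt h χ
  · exact hvan d m (hK.low d hde hd m)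
      (hom_eq_zero_of_neg (show -(n : ℤ) ≤ (d : ℤ) - e by omega) (by omega) m (m₀ + 1))
  · refine ⟨Linear.rightComp k _ ((Tq n k (e : ℤ)).map g), fun χ => ?_, fun hm hinj => ?_⟩
    · -- the connecting map vanishes on `χ`
      suffices hδ : χ ≫ (Tq n k (e : ℤ)).map δ = 0 by
        obtain ⟨ψ, hψ⟩ := Triangle.coyoneda_exact₂ _ (hTd e) χ hδ
        exact ⟨ψ, hψ.symm⟩
      obtain ⟨i⟩ := hQ e
      by_cases hm : m = m₀ + 1
      · subst hm
        let c1 := ((Tq n k (e : ℤ)).commShiftIso (1 : ℤ))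
        let w : on n k (m₀ + 1) ≅ (Tq n k (e : ℤ)).obj (Q⟦(1 : ℤ)⟧) :=
          (shiftFunctorAdd' (DCoh.D P) m₀ 1 (m₀ + 1) rfl).app _ ≪≫
            (shiftFunctor _ (1 : ℤ)).mapIso j.symm ≪≫ (c1.app Q).symm
        have h1 : Module.finrank k (on n k (m₀ + 1) ⟶ (Tq n k (e : ℤ)).obj (Q⟦(1 : ℤ)⟧)) = 1 := by
          have := finrank_hom_self (n := n) (k := k) (m₀ + 1)
          rw [← this]
          exact (Linear.homCongr k (Iso.refl _)
            (i ≪≫ eqToIso (congrArg (fun c => (DCoh.inD P (PT n k c))⟦m₀ + 1⟧) (sub_self (e : ℤ))))).finrank_eq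
        have hwφ : w.hom ≫ (Tq n k (e : ℤ)).map (β⟦(1 : ℤ)⟧') ≠ 0 := by
          intro h0
          have hn : c1.inv.app Q ≫ (Tq n k (e : ℤ)).map (β⟦(1 : ℤ)⟧') =
              ((Tq n k (e : ℤ)).map β)⟦(1 : ℤ)⟧' ≫ c1.inv.app K := (c1.inv.naturality β).symm
          have h2 : (shiftFunctorAdd' (DCoh.D P) m₀ 1 (m₀ + 1) rfl).hom.app _ ≫ (j.inv⟦(1 : ℤ)⟧' ≫
              ((Tq n k (e : ℤ)).map β)⟦(1 : ℤ)⟧') ≫ c1.inv.app K = 0 := by
            rw [Category.assoc, ← hn]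
            simpa [w] using h0
          rw [← Functor.map_comp, hβ, Iso.inv_hom_id_assoc] at h2
          have h3 : φ⟦(1 : ℤ)⟧' ≫ c1.inv.app K = 0 := zero_of_epi_comp _ h2
          refine hφ ((shiftFunctor (DCoh.D P) (1 : ℤ)).map_injective ?_)
          rw [Functor.map_zero]
          exact (cancel_mono (c1.inv.app K)).1 (h3.trans zero_comp.symm)
        have hw : w.hom ≠ 0 := fun h => hwφ ((congrArg (· ≫ _) h).trans zero_comp)
        obtain ⟨c, hc⟩ := exists_smul_eq_of_finrank_eq_one h1 hw (χ ≫ (Tq n k (e : ℤ)).map δ)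
        have h0 : (χ ≫ (Tq n k (e : ℤ)).map δ) ≫ (Tq n k (e : ℤ)).map (β⟦(1 : ℤ)⟧') = 0 := by
          rw [Category.assoc, ← Functor.map_comp]
          exact (congrArg (χ ≫ ·) ((congrArg (Tq n k (e : ℤ)).map (comp_distTriang_mor_zero₃₁ _ hT)).trans
            (Functor.map_zero _ _ _))).trans comp_zero
        rw [← hc, Linear.smul_comp] at h0
        rcases smul_eq_zero.1 h0 with h | h
        · rw [← hc, h, zero_smul]
        · exact absurd h hwφ
      · refine (cancel_mono i.hom).1 (Eq.trans ?_ zero_comp.symm)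
        rcases lt_or_gt_of_ne hm with h | h
        · exact hom_one_twist_eq_zero n k (show -(n : ℤ) ≤ (e : ℤ) - e by omega) m (m₀ + 1) h _
        · exact hom_eq_zero_of_gt h _
    · subst hm
      refine hφ (hinj ?_)
      rw [map_zero]
      change φ ≫ (Tq n k (e : ℤ)).map g = 0
      have h0 : j.hom ≫ φ ≫ (Tq n k (e : ℤ)).map g = 0 := by
        rw [← Category.assoc, ← hβ, ← Functor.map_comp]
        exact (congrArg (Tq n k (e : ℤ)).map (comp_distTriang_mor_zero₁₂ _ hT)).trans (Functor.map_zero _ _ _)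
      exact zero_of_epi_comp _ h0

/-- An object with finite twisted cohomology is perfect. -/
theorem isPerfect_of_inv : ∀ (r e : ℕ) (K : DCoh.D (CohB1.ProjSpace n k)), e + r = n + 1 → Inv e K →
    DCoh.IsPerfect K := by
  intro r
  induction r with
  | zero =>
    intro e K he hK
    have hle : ∀ b : ℤ, K.IsLE b := fun b =>
      isLE_of_hd hK.qc b fun d hd m _ => hK.low d (by omega) hd m
    exact Perfect.OfCohomology.isPerfect_of_isZero (OpenSupport.isZero_of_homology _ fun i =>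
      haveI := hle (i - 1)
      DerivedCategory.isZero_of_isLE K (i - 1) i (by omega))
  | succ r ih =>
    intro e K he hK
    obtain ⟨S, hS⟩ := hK.supp e (by omega)
    suffices H : ∀ (μ : ℕ) (K : DCoh.D (CohB1.ProjSpace n k)), Inv e K → (∀ m, m ∉ S → Hd n k (e : ℤ) m K) →
        ∑ m ∈ S, Module.finrank k (on n k m ⟶ (Tq n k (e : ℤ)).obj K) = μ → DCoh.IsPerfect K from
      H _ K hK hS rfl
    intro μ
    induction μ using Nat.strong_induction_on with
    | _ μ ihμ =>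
      intro K hK hS hμ
      by_cases hz : ∀ m, Hd n k (e : ℤ) m K
      · exact ih (e + 1) K (by omega) ⟨hK.qc, hK.fin, hK.supp, fun d hd hd' m => by
          by_cases h : d = e
          · subst h; exact hz m
          · exact hK.low d (by omega) hd' m⟩
      obtain ⟨m₀, hm₀⟩ := not_forall.1 hz
      obtain ⟨φ, hφ⟩ := not_forall.1 hm₀
      obtain ⟨K', hK', hp, hg⟩ := step (by omega) hK m₀ φ hφ
      have hm₀S : m₀ ∈ S := by
        by_contra h
        exact hm₀ (hS m₀ h)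
      refine hp (ihμ _ ?_ K' hK' (fun m hm χ => ?_) rfl)
      · rw [← hμ]
        refine Finset.sum_lt_sum (fun m _ => ?_) ⟨m₀, hm₀S, ?_⟩
        · haveI := hK.fin e (by omega) m
          obtain ⟨g, hg₁, -⟩ := hg m
          exact LinearMap.finrank_le_finrank_of_surjective hg₁
        · haveI := hK.fin e (by omega) m₀
          haveI := hK'.fin e (by omega) m₀
          obtain ⟨g, hg₁, hg₂⟩ := hg m₀
          by_contra h
          have heq : Module.finrank k (on n k m₀ ⟶ (Tq n k (e : ℤ)).obj K) =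
              Module.finrank k (on n k m₀ ⟶ (Tq n k (e : ℤ)).obj K') :=
            le_antisymm (not_lt.1 h) (LinearMap.finrank_le_finrank_of_surjective hg₁)
          exact hg₂ rfl ((LinearMap.injective_iff_surjective_of_finrank_eq_finrank heq).2 hg₁)
      · obtain ⟨g, hg₁, -⟩ := hg m
        obtain ⟨ψ, rfl⟩ := hg₁ χ
        rw [hS m hm ψ, map_zero]

end Groth.Agent.H83.ExtFinite.PnField
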