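import Groth.Agent.H83.ExtFinite.Transport
import Groth.Agent.Lib.ExchangeFP29.ProjFibre
import Groth.Agent.Lib.Biduality.Global
import Groth.Agent.Lib.Perfect.Coherent
import Groth.Prelude.Def_SGA6
import Groth.Prelude.Def_Twist2

/-!
# Bounded coherent objects on `P^n` over a field
-/

set_option autoImplicit false
set_option linter.style.haveILetI false
set_option linter.unusedSectionVars false

universe u

open CategoryTheory CategoryTheory.Limits AlgebraicGeometry

attribute [local instance] HasDerivedCategory.standard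

namespace Groth.Agent.H83.ExtFinite.PnOver

open Groth.Agent.Lib Groth.Agent.Lib.DerivedOX Groth.Agent.H83.AmpleGen Groth.Agent.H83.ProjPCCrit
open Groth.Agent.Lib.Perfect.Basic Groth.Agent.Lib.TensorMod.Basic

section Twist

variable {X : Scheme.{u}} [IsLocallyNoetherian X] {L : X.Modules} [(AmpleGen.tw L).IsEquivalence]
  (hL : PicF.IsInvertible L)

include hL in
theorem isCohD_tw {K : DCoh.D X} (hK : DCoh.IsCohD K) :
    DCoh.IsCohD ((AmpleGen.tw L).mapDerivedCategory.obj K) := fun i => Perfect.Coherent.isCoh_of_cover fun x => by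
  obtain ⟨U, hx, ⟨e⟩⟩ := ProjPCCrit.exists_restrict_tw_iso L hL K x
  refine ⟨_, U.ι, inferInstance, ⟨x, hx⟩, rfl, CohBasics.Closure.isCoh_of_iso
    ((Perfect.Coherent.homologyIso U.ι K i).symm ≪≫ (DerivedCategory.homologyFunctor _ i).mapIso e.symm ≪≫
      Perfect.Coherent.homologyIso U.ι ((AmpleGen.tw L).mapDerivedCategory.obj K) i) ?_⟩
  exact Biduality.Global.isCoh_restrict U.ι (hK i)

include hL in
theorem isZero_HD_tw {K : DCoh.D X} (i : ℤ) (h : IsZero (DCoh.HD K i)) :
    IsZero (DCoh.HD ((AmpleGen.tw L).mapDerivedCategory.obj K) i) :=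
  Modules.Support.support_eq_empty_iff.1 (Set.eq_empty_of_forall_notMem fun x => by
    obtain ⟨U, hx, ⟨e⟩⟩ := ProjPCCrit.exists_restrict_tw_iso L hL K x
    have h1 : IsZero (DCoh.HD ((RD U.ι).obj K) i) :=
      (Functor.map_isZero _ h).of_iso (Perfect.Coherent.homologyIso U.ι K i)
    exact (GenBdd.isZero_restrict_iff U.ι _ i).1
      (h1.of_iso ((DerivedCategory.homologyFunctor _ i).mapIso e)) x ⟨⟨x, hx⟩, rfl⟩)

end Twist

variable (k : Type u) [Field k] (n : ℕ)

local notation "X" => CohB1.ProjSpaceOver n (Spec (CommRingCat.of k))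

attribute [local instance] PnField.overPn

theorem nonempty_twistOver (d : ℤ) :
    Nonempty ((Scheme.Modules.pullback (ProjSpace.BaseChange.overSpecIso n k).inv).obj
      (Twist.twistOver n (Spec (CommRingCat.of k)) d) ≅ PT n k d) := by
  obtain ⟨τ⟩ := ProjSpace.TwistBC.nonempty_iso n (ProjSpace.BaseChange.ulz k) d
  refine ⟨(Scheme.Modules.pullbackComp _ _).app _ ≪≫ (Scheme.Modules.pullbackCongr ?_).app _ ≪≫ τ⟩
  rw [← ProjSpace.BaseChange.overSpecIso_hom_projMap, Iso.inv_hom_id_assoc]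

theorem nonempty_pw (d : ℤ) [DCoh.HasLTensorMod (Twist.twistOver n (Spec (CommRingCat.of k)) d)]
    [(AmpleGen.tw (Twist.twistOver n (Spec (CommRingCat.of k)) d)).IsEquivalence] (K : DCoh.D X) :
    Nonempty ((AmpleGen.tw (Twist.twistOver n (Spec (CommRingCat.of k)) d)).mapDerivedCategory.obj K ≅
      (DCoh.LTensorMod (Twist.twistOver n (Spec (CommRingCat.of k)) d)).obj K) :=
  AmpleGen.exists_pw_iso_LTensorMod (Twist.twistOver n (Spec (CommRingCat.of k)) d) K 1
    (leftUnit (Twist.twistOver n (Spec (CommRingCat.of k)) d))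

/-- Finiteness hypothesis on the twists by `0, …, n`. -/
def Hyp [∀ d : ℤ, DCoh.HasLTensorMod (Twist.twistOver n (Spec (CommRingCat.of k)) d)] (K : DCoh.D X) : Prop :=
  ∀ d : ℕ, d ≤ n →
    (∀ i : ℤ, Module.Finite k (DCoh.inD X (Coh.structureModule X) ⟶
      ((DCoh.LTensorMod (Twist.twistOver n (Spec (CommRingCat.of k)) (d : ℤ))).obj K)⟦i⟧)) ∧
    Set.Finite {i : ℤ | Nontrivial (DCoh.inD X (Coh.structureModule X) ⟶
      ((DCoh.LTensorMod (Twist.twistOver n (Spec (CommRingCat.of k)) (d : ℤ))).obj K)⟦i⟧)}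

variable [∀ d : ℤ, DCoh.HasLTensorMod (Twist.twistOver n (Spec (CommRingCat.of k)) d)]

theorem isPerfect_of_hyp {K : DCoh.D X} (hK : DCoh.IsQCohD K) (h : Hyp k n K) : DCoh.IsPerfect K := by
  let j := (ProjSpace.BaseChange.overSpecIso n k).inv
  haveI : j.IsOver (Spec (CommRingCat.of k)) := ⟨ProjSpace.BaseChange.overSpecIso_inv_toBase n k⟩
  haveI : (RD j).Full := full_RD_of_isIso j
  haveI : (RD j).Faithful := faithful_RD_of_isIso j
  haveI := fun d : ℤ => AmpleGen.isEquivalence_tw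
    (ExchangeFP29.ProjFibre.isInvertible_twistOver (n := n) (S := Spec (CommRingCat.of k)) d)
  have key : ∀ d : ℕ, d ≤ n → ∀ m : ℤ,
      Module.Finite k (PnField.on n k m ⟶ (Tq n k (d : ℤ)).obj ((RD j).obj K)) ∧
      (¬ Nontrivial (DCoh.inD X (Coh.structureModule X) ⟶
        ((DCoh.LTensorMod (Twist.twistOver n (Spec (CommRingCat.of k)) (d : ℤ))).obj K)⟦-m⟧) →
        Hd n k (d : ℤ) m ((RD j).obj K)) := by
    intro d hd m
    obtain ⟨φ⟩ := nonempty_twistOver k n (d : ℤ)
    obtain ⟨a⟩ := nonempty_pw k n (d : ℤ) K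
    obtain ⟨b⟩ := nonempty_RD_tw j φ K
    let L := (DCoh.LTensorMod (Twist.twistOver n (Spec (CommRingCat.of k)) (d : ℤ))).obj K
    let i₂ : (RD j).obj L ≅ (Tq n k (d : ℤ)).obj ((RD j).obj K) := (RD j).mapIso a.symm ≪≫ b
    let i₁ : (RD j).obj ((CompactUnit.oneD X)⟦m⟧) ≅ PnField.on n k m :=
      ((RD j).commShiftIso m).app _ ≪≫ (shiftFunctor _ m).mapIso (CompactUnit.restrictOneIso j)
    let sh := shiftFunctor (DCoh.D X) (-m)
    let e₁ : ((CompactUnit.oneD X)⟦m⟧)⟦-m⟧ ≅ DCoh.inD X (Coh.structureModule X) :=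
      (shiftFunctorCompIsoId _ m (-m) (by omega)).app _
    let l : (DCoh.inD X (Coh.structureModule X) ⟶ L⟦-m⟧) ≃ₗ[k] ((CompactUnit.oneD X)⟦m⟧ ⟶ L) :=
      (({ (Functor.FullyFaithful.ofFullyFaithful sh).homEquiv with
        map_add' := fun f g => sh.map_add
        map_smul' := fun a f => sh.map_smul a f } :
          ((CompactUnit.oneD X)⟦m⟧ ⟶ L) ≃ₗ[k] _) ≪≫ₗ
        CategoryTheory.Linear.homCongr k e₁ (Iso.refl _)).symm
    haveI := (h d hd).1 (-m)
    haveI : Module.Finite k ((CompactUnit.oneD X)⟦m⟧ ⟶ L) := Module.Finite.equiv l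
    haveI := finite_hom_RD (A := k) j ((CompactUnit.oneD X)⟦m⟧) L
    refine ⟨Module.Finite.equiv (CategoryTheory.Linear.homCongr k i₁ i₂), fun hn => ?_⟩
    rw [not_nontrivial_iff_subsingleton] at hn
    have := l.symm.toEquiv.subsingleton
    have := (show ((CompactUnit.oneD X)⟦m⟧ ⟶ L) ≃ ((RD j).obj ((CompactUnit.oneD X)⟦m⟧) ⟶ (RD j).obj L) from
      (Functor.FullyFaithful.ofFullyFaithful (RD j)).homEquiv).symm.subsingleton
    have := (Iso.homCongr i₁ i₂).symm.subsingleton
    exact fun ψ => Subsingleton.elim _ _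
  have hinv : PnField.Inv 0 ((RD j).obj K) := by
    refine ⟨CompactUnit.isQCohD_restrictD j hK, fun d hd m => (key d hd m).1, fun d hd => ?_,
      fun d hd => absurd hd (Nat.not_lt_zero d)⟩
    refine ⟨(h d hd).2.toFinset.image fun i => -i, fun m hm => (key d hd m).2 fun hnt => hm ?_⟩
    exact Finset.mem_image.2 ⟨-m, (h d hd).2.mem_toFinset.2 hnt, neg_neg m⟩
  have hp := PnField.isPerfect_of_inv (n + 1) 0 _ (by omega) hinv
  refine (Perfect.Triangle.isPerfect_iff K).2 fun x => ?_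
  exact Perfect.Triangle.PerfAt.of_restrict (j := j) (y := (ProjSpace.BaseChange.overSpecIso n k).hom x)
    (by change ((ProjSpace.BaseChange.overSpecIso n k).hom ≫ j) x = x; simp [j])
    ((Perfect.Triangle.isPerfect_iff _).1 hp _)

theorem hyp_of_cohb {K : DCoh.D X} (hK : SGA6.cohbP X K) : Hyp k n K := by
  haveI : IsProper (X ↘ Spec (CommRingCat.of k)) :=
    ProjSpace.BaseChange.isProper_toBase (n := n) (Spec (CommRingCat.of k))
  haveI : IsLocallyNoetherian X :=
    LocallyOfFiniteType.isLocallyNoetherian (X ↘ Spec (CommRingCat.of k))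
  intro d hd
  obtain ⟨hKc, a, b, ha, hb⟩ := hK
  let hinv := ExchangeFP29.ProjFibre.isInvertible_twistOver (n := n) (S := Spec (CommRingCat.of k)) (d : ℤ)
  haveI := AmpleGen.isEquivalence_tw hinv
  obtain ⟨p⟩ := nonempty_pw k n (d : ℤ) K
  let L := (DCoh.LTensorMod (Twist.twistOver n (Spec (CommRingCat.of k)) (d : ℤ))).obj K
  have hLc : DCoh.IsCohD L := fun i => CohBasics.Closure.isCoh_of_iso
    ((DerivedCategory.homologyFunctor _ i).mapIso p) (isCohD_tw hinv hKc i)
  haveI : L.IsGE a := (DerivedCategory.isGE_iff _ _).2 fun i hi =>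
    (isZero_HD_tw hinv i (DerivedCategory.isZero_of_isGE K a i hi)).of_iso
      ((DerivedCategory.homologyFunctor _ i).mapIso p.symm)
  haveI : L.IsLE b := (DerivedCategory.isLE_iff _ _).2 fun i hi =>
    (isZero_HD_tw hinv i (DerivedCategory.isZero_of_isLE K b i hi)).of_iso
      ((DerivedCategory.homologyFunctor _ i).mapIso p.symm)
  have hO : DCoh.IsPerfect (DCoh.inD X (Coh.structureModule X)) := Gen43.Affine.isPerfect_oneD' X
  haveI : (DCoh.inD X (Coh.structureModule X)).IsLE 0 :=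
    (inferInstance : ((DerivedCategory.singleFunctor (Scheme.Modules X) 0).obj (Coh.structureModule X)).IsLE 0)
  have hLi : ∀ i : ℤ, (L⟦i⟧).IsGE (a - i) := fun i =>
    DerivedCategory.TStructure.t.isGE_shift L a i (a - i) (by omega)
  refine ⟨fun i => haveI := hLi i; finite_hom _ (L⟦i⟧) (Perfect.Coherent.isCohD_of_isPerfect hO) 0
    (fun l => CohBasics.Closure.isCoh_of_iso
      (((DerivedCategory.homologyFunctor (Scheme.Modules X) 0).shiftIso i l (i + l) rfl).app L).symm (hLc (i + l)))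
    (a - i), ?_⟩
  obtain ⟨N, hN⟩ := exists_vanish (X ↘ Spec (CommRingCat.of k)) hO hLc a b
  refine (Set.finite_Icc a N).subset fun i hi => ⟨?_, ?_⟩
  · by_contra h
    haveI := hLi i
    exact not_subsingleton_iff_nontrivial.2 hi
      (subsingleton_of_forall_eq 0 fun φ => DerivedCategory.TStructure.t.zero φ 0 (a - i) (by omega))
  · by_contra h
    exact not_subsingleton_iff_nontrivial.2 hi (subsingleton_of_forall_eq 0 (hN i (by omega)))

theorem main {K : DCoh.D X} (hK : DCoh.IsQCohD K) : SGA6.cohbP X K ↔ Hyp k n K := by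
  refine ⟨hyp_of_cohb k n, fun h => ?_⟩
  haveI : IsProper (X ↘ Spec (CommRingCat.of k)) :=
    ProjSpace.BaseChange.isProper_toBase (n := n) (Spec (CommRingCat.of k))
  haveI : IsLocallyNoetherian X :=
    LocallyOfFiniteType.isLocallyNoetherian (X ↘ Spec (CommRingCat.of k))
  haveI : CompactSpace X := QuasiCompact.compactSpace_of_compactSpace (X ↘ Spec (CommRingCat.of k))
  have hp := isPerfect_of_hyp k n hK h
  exact ⟨Perfect.Coherent.isCohD_of_isPerfect hp, Perfect.Coherent.bounded_of_isPerfect hp⟩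

end Groth.Agent.H83.ExtFinite.PnOver
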