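import Groth.Agent.H83.ExtFinite.PnField
import Groth.Agent.H83.ExtFinite.Vanish
import Groth.Agent.Lib.ProjSpace.TwistBC
import Groth.Agent.Lib.Exchange.Linear

/-!
# Transport along `P^n_{Spec k} ≅ P^n_k`
-/

set_option autoImplicit false
set_option linter.style.haveILetI false
set_option linter.unusedSectionVars false

universe u

open CategoryTheory CategoryTheory.Limits AlgebraicGeometry

attribute [local instance] HasDerivedCategory.standard

namespace Groth.Agent.H83.ExtFinite

open Groth.Agent.Lib Groth.Agent.Lib.DerivedOX Groth.Agent.Lib.Perfect.Basic Groth.Agent.Lib.TensorMod.Basic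

section Linear

variable {A : Type u} [CommRing A] {X Y : Scheme.{u}} [X.Over (Spec (CommRingCat.of A))]
  [Y.Over (Spec (CommRingCat.of A))] (j : Y ⟶ X) [IsOpenImmersion j] [j.IsOver (Spec (CommRingCat.of A))]

theorem restrictFunctor_linear : (Scheme.Modules.restrictFunctor j).Linear A := by
  refine (Functor.linear_iff A _).2 fun M a => ?_
  let θ := Scheme.Modules.restrictFunctorIsoPullback j
  have hp : (Scheme.Modules.pullback j).map (a • 𝟙 M) = a • 𝟙 ((Scheme.Modules.pullback j).obj M) := by
    rw [KLin.smul_id, KLin.smul_id]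
    refine (ZarCoh.Exchange.Linear.pullback_smul j M _).trans ?_
    refine congrArg (_root_.Formal.smulModΓ _) ?_
    show (j.appTop) ((X ↘ Spec (CommRingCat.of A)).appTop ((Scheme.ΓSpecIso (CommRingCat.of A)).inv a)) =
      (Y ↘ Spec (CommRingCat.of A)).appTop ((Scheme.ΓSpecIso (CommRingCat.of A)).inv a)
    rw [← ConcreteCategory.comp_apply, ← Scheme.Hom.comp_appTop, comp_over j (Spec (CommRingCat.of A))]
  have h : (Scheme.Modules.restrictFunctor j).map (a • 𝟙 M) ≫ θ.hom.app M =
      θ.hom.app M ≫ (Scheme.Modules.pullback j).map (a • 𝟙 M) := θ.hom.naturality _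
  rw [hp] at h
  exact (cancel_mono (θ.hom.app M)).1 (h.trans ((CategoryTheory.Linear.comp_smul _ _ _ _ _ _).trans
    ((congrArg (a • ·) ((Category.comp_id _).trans (Category.id_comp _).symm)).trans
      (CategoryTheory.Linear.smul_comp _ _ _ _ _ _).symm)))

theorem RD_map_smul (a : A) (K : DCoh.D X) : (RD j).map (a • 𝟙 K) = a • 𝟙 _ := by
  haveI := restrictFunctor_linear (A := A) j
  let M := DerivedCategory.Q.objPreimage K
  let e : DerivedCategory.Q.obj M ≅ K := DerivedCategory.Q.objObjPreimageIso K
  have hK : a • 𝟙 K = e.inv ≫ DerivedCategory.Q.map (a • 𝟙 M) ≫ e.hom := by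
    rw [Functor.map_smul, CategoryTheory.Functor.map_id, CategoryTheory.Linear.smul_comp, Category.id_comp,
      CategoryTheory.Linear.comp_smul, e.inv_hom_id]
  let φ := (Scheme.Modules.restrictFunctor j).mapDerivedCategoryFactors
  have h1 : ((Scheme.Modules.restrictFunctor j).mapHomologicalComplex (.up ℤ)).map (a • 𝟙 M) =
      a • 𝟙 (((Scheme.Modules.restrictFunctor j).mapHomologicalComplex (.up ℤ)).obj M) := by
    refine HomologicalComplex.hom_ext _ _ fun n => ?_
    rw [Functor.mapHomologicalComplex_map_f, HomologicalComplex.smul_f_apply,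
      HomologicalComplex.smul_f_apply, HomologicalComplex.id_f, HomologicalComplex.id_f,
      Functor.map_smul, CategoryTheory.Functor.map_id]
    rfl
  have hh : (RD j).map (DerivedCategory.Q.map (a • 𝟙 M)) ≫ φ.hom.app M =
      φ.hom.app M ≫ DerivedCategory.Q.map
        (((Scheme.Modules.restrictFunctor j).mapHomologicalComplex (.up ℤ)).map (a • 𝟙 M)) :=
    φ.hom.naturality (a • 𝟙 M)
  rw [h1, Functor.map_smul (DerivedCategory.Q (C := Y.Modules)), CategoryTheory.Functor.map_id] at hh
  have h2 : (RD j).map (DerivedCategory.Q.map (a • 𝟙 M)) = a • 𝟙 _ :=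
    (cancel_mono (φ.hom.app M)).1 (hh.trans ((CategoryTheory.Linear.comp_smul _ _ _ _ _ _).trans
      ((congrArg (a • ·) ((Category.comp_id _).trans (Category.id_comp _).symm)).trans
        (CategoryTheory.Linear.smul_comp _ _ _ _ _ _).symm)))
  rw [hK, Functor.map_comp, Functor.map_comp, h2, CategoryTheory.Linear.smul_comp, Category.id_comp,
    CategoryTheory.Linear.comp_smul, ← Functor.map_comp, e.inv_hom_id, CategoryTheory.Functor.map_id]

/-- Finiteness of `Hom` goes along restriction by an isomorphism. -/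
theorem finite_hom_RD [(RD j).Full] [(RD j).Faithful] (K L : DCoh.D X) [Module.Finite A (K ⟶ L)] :
    Module.Finite A ((RD j).obj K ⟶ (RD j).obj L) := by
  haveI := Linear.linear_of_map_smul (RD j) (RD_map_smul (A := A) j)
  exact Module.Finite.equiv ({ (Functor.FullyFaithful.ofFullyFaithful (RD j)).homEquiv with
    map_add' := fun f g => (RD j).map_add
    map_smul' := fun a f => (RD j).map_smul a f } : (K ⟶ L) ≃ₗ[A] _)

end Linear

section Tensor

variable {X Y : Scheme.{u}} (j : Y ⟶ X) [IsOpenImmersion j] {M : X.Modules} {M' : Y.Modules}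

/-- Restriction commutes with twisting. -/
noncomputable def twPullIso (φ : (Scheme.Modules.pullback j).obj M ≅ M') :
    AmpleGen.tw M ⋙ Scheme.Modules.pullback j ≅ Scheme.Modules.pullback j ⋙ AmpleGen.tw M' :=
  NatIso.ofComponents
    (fun G => TensorMod.Pullback.pullbackTensorIso j G M ≪≫ tensorIso (Iso.refl _) φ)
    fun {G G'} g => by
      change (Scheme.Modules.pullback j).map (tmap g (𝟙 M)) ≫ TensorMod.Pullback.delta j G' M ≫
          tmap (𝟙 _) φ.hom =
        (TensorMod.Pullback.delta j G M ≫ tmap (𝟙 _) φ.hom) ≫ tmap ((Scheme.Modules.pullback j).map g) (𝟙 M')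
      rw [← Category.assoc, TensorMod.Pullback.delta_natural]
      simp only [Category.assoc]
      congr 1
      rw [← tmap_comp, ← tmap_comp, Category.comp_id, Category.id_comp, Category.comp_id]
      congr 1
      exact (congrArg (· ≫ φ.hom) ((Scheme.Modules.pullback j).map_id M)).trans (Category.id_comp φ.hom)

theorem nonempty_RD_tw [(AmpleGen.tw M).IsEquivalence] [(AmpleGen.tw M').IsEquivalence]
    (φ : (Scheme.Modules.pullback j).obj M ≅ M') (Z : DCoh.D X) :
    Nonempty ((RD j).obj ((AmpleGen.tw M).mapDerivedCategory.obj Z) ≅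
      (AmpleGen.tw M').mapDerivedCategory.obj ((RD j).obj Z)) := by
  let E := DerivedCategory.Q.objPreimage Z
  let eE := DerivedCategory.Q.objObjPreimageIso Z
  let c : (Perfect.Pullback.pC j).obj (((AmpleGen.tw M).mapHomologicalComplex (ComplexShape.up ℤ)).obj E) ≅
      ((AmpleGen.tw M').mapHomologicalComplex (ComplexShape.up ℤ)).obj ((Perfect.Pullback.pC j).obj E) :=
    HomologicalComplex.Hom.isoOfComponents (fun i => (twPullIso j φ).app (E.X i))
      fun i l _ => ((twPullIso j φ).hom.naturality (E.d i l)).symm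
  exact ⟨(RD j).mapIso ((AmpleGen.tw M).mapDerivedCategory.mapIso eE.symm ≪≫
      (AmpleGen.tw M).mapDerivedCategoryFactors.app E) ≪≫ RDQ _ _ ≪≫
    DerivedCategory.Q.mapIso ((Perfect.Pullback.rCIso j).app _ ≪≫ c ≪≫
      ((AmpleGen.tw M').mapHomologicalComplex (ComplexShape.up ℤ)).mapIso
        ((Perfect.Pullback.rCIso j).app _).symm) ≪≫
    ((AmpleGen.tw M').mapDerivedCategoryFactors.app _).symm ≪≫
    (AmpleGen.tw M').mapDerivedCategory.mapIso ((RDQ j E).symm ≪≫ (RD j).mapIso eE)⟩

theorem full_RD_of_isIso [IsIso j] : (RD j).Full := inferInstance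

theorem faithful_RD_of_isIso [IsIso j] : (RD j).Faithful := inferInstance

end Tensor

end Groth.Agent.H83.ExtFinite
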